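import Cfsg.Agent.Mrg.Omega.NO3S.FarQ.Glue
import Cfsg.Agent.Mrg.Omega.NOThree.Pts
import Cfsg.Agent.Mrg.Omega.NoFF.ThmJ
import Cfsg.Agent.Mrg.Omega.NO3S.FarQ.Core

section


/-!
# NO-3S, `q ≥ 4`: the instance of `RD` (helper263 #15995, helper238)

* `exists_mod` : `C` acts on `W / R` by conjugation;
* `exists_rd` : `PL S P V Z`, (F1), (T6), `N_G(S) ≤ N_G(V)` and `|Z| ≥ 4` give `RD` at the base flag `(Z, V)`;
* `exists_rd_flag` : all the flags are realised by the same `H`, `M`.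
-/

set_option autoImplicit false
set_option linter.unusedSectionVars false

namespace Cfsg.Agent.Omega.NO3S.FarQ

open Subgroup Cfsg Cfsg.Agent.ZN Cfsg.Agent.MinSimple.VModule Cfsg.Agent.Omega.NOThree.Pts
open Cfsg.Agent.Omega.NO3S.FarQ.Glue Cfsg.Agent.Omega.NO3S.PT Cfsg.Agent.Omega.NO3S.PtGeom
open scoped Pointwise

universe u

variable {G : Type u} [Group G]

theorem exists_mod {C W R : Subgroup G} (hCW : ∀ c ∈ C, ∀ w ∈ W, c * w * c⁻¹ ∈ W)
    (hCR : ∀ c ∈ C, ∀ w ∈ R, c * w * c⁻¹ ∈ R) (hWc : ∀ a ∈ W, ∀ b ∈ W, a * b = b * a) :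
    ∃ (H M : Type u) (_ : Group H) (_ : CommGroup M) (_ : MulDistribMulAction H M) (ρ : G → H) (π : G → M),
      (∀ a ∈ C, ∀ b ∈ C, ρ (a * b) = ρ a * ρ b) ∧ (∀ h, ∃ a ∈ C, ρ a = h) ∧
      (∀ a ∈ C, ρ a = 1 ↔ ∀ w ∈ W, a * w * a⁻¹ * w⁻¹ ∈ R) ∧
      (∀ a ∈ W, ∀ b ∈ W, π (a * b) = π a * π b) ∧ (∀ m, ∃ a ∈ W, π a = m) ∧ (∀ a ∈ W, π a = 1 ↔ a ∈ R) ∧
      (∀ g ∈ C, ∀ w ∈ W, π (g * w * g⁻¹) = ρ g • π w) := by
  classical
  let _ : CommGroup W := { (inferInstance : Group W) with mul_comm := fun a b => Subtype.ext (hWc a a.2 b b.2) }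
  let R' : Subgroup W := R.subgroupOf W
  let α : C → (W →* W) := fun c =>
    { toFun := fun w => ⟨(c : G) * w * (c : G)⁻¹, hCW c c.2 w w.2⟩
      map_one' := Subtype.ext (by
        show (c : G) * (1 : G) * (c : G)⁻¹ = 1
        group)
      map_mul' := fun a b => Subtype.ext (by
        show (c : G) * ((a : G) * b) * (c : G)⁻¹ = (c : G) * a * (c : G)⁻¹ * ((c : G) * b * (c : G)⁻¹)
        group) }
  have hα : ∀ c : C, R' ≤ R'.comap (α c) := by
    intro c w hw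
    exact mem_subgroupOf.2 (hCR c c.2 w (mem_subgroupOf.1 hw))
  let act : MulDistribMulAction C (W ⧸ R') :=
    { smul := fun c m => QuotientGroup.map R' R' (α c) (hα c) m
      one_smul := fun m => by
        induction m using QuotientGroup.induction_on with
        | H w =>
          change (QuotientGroup.mk (α 1 w) : W ⧸ R') = QuotientGroup.mk w
          congr 1
          refine Subtype.ext ?_
          show (1 : G) * w * (1 : G)⁻¹ = w
          group
      mul_smul := fun c d m => by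
        induction m using QuotientGroup.induction_on with
        | H w =>
          change (QuotientGroup.mk (α (c * d) w) : W ⧸ R') = QuotientGroup.mk (α c (α d w))
          congr 1
          refine Subtype.ext ?_
          show (c : G) * d * w * ((c : G) * d)⁻¹ = (c : G) * ((d : G) * w * (d : G)⁻¹) * (c : G)⁻¹
          group
      smul_one := fun c => map_one _
      smul_mul := fun c m n => map_mul _ m n }
  let β : C →* MulAut (W ⧸ R') := MulDistribMulAction.toMulAut C (W ⧸ R')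
  let ρ : G → β.range := fun g => if hg : g ∈ C then β.rangeRestrict ⟨g, hg⟩ else 1
  let π : G → W ⧸ R' := fun w => if hw : w ∈ W then QuotientGroup.mk ⟨w, hw⟩ else 1
  have hρ : ∀ g (hg : g ∈ C), ρ g = β.rangeRestrict ⟨g, hg⟩ := fun g hg => dif_pos hg
  have hπ : ∀ w (hw : w ∈ W), π w = QuotientGroup.mk ⟨w, hw⟩ := fun w hw => dif_pos hw
  have hact : ∀ g ∈ C, ∀ w ∈ W, π (g * w * g⁻¹) = ρ g • π w := by
    intro g hg w hw
    rw [hρ g hg, hπ w hw, hπ _ (hCW g hg w hw)]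
    rfl
  have hπker : ∀ a ∈ W, π a = 1 ↔ a ∈ R := by
    intro a ha
    rw [hπ a ha, QuotientGroup.eq_one_iff]
    exact mem_subgroupOf
  have hπmul : ∀ a ∈ W, ∀ b ∈ W, π (a * b) = π a * π b := by
    intro a ha b hb
    rw [hπ a ha, hπ b hb, hπ _ (mul_mem ha hb)]
    rfl
  have hπsurj : ∀ m, ∃ a ∈ W, π a = m := by
    intro m
    induction m using QuotientGroup.induction_on with
    | H w => exact ⟨w, w.2, hπ w w.2⟩
  refine ⟨β.range, W ⧸ R', inferInstance, inferInstance, inferInstance, ρ, π, ?_, ?_, ?_, hπmul, hπsurj, hπker, hact⟩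
  · intro a ha b hb
    rw [hρ a ha, hρ b hb, hρ _ (mul_mem ha hb), ← map_mul]
    rfl
  · intro h
    obtain ⟨⟨c, hc⟩, hc'⟩ := β.rangeRestrict_surjective h
    exact ⟨c, hc, by rw [hρ c hc, hc']⟩
  · intro a ha
    have h1 : ρ a = 1 ↔ ∀ m : W ⧸ R', ρ a • m = m := by
      constructor
      · intro h m
        rw [h, one_smul]
      · intro h
        refine Subtype.ext (MulEquiv.ext fun m => ?_)
        exact h m
    rw [h1]
    constructor
    · intro h w hw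
      rw [← hπker _ (mul_mem (hCW a ha w hw) (inv_mem hw)), hπmul _ (hCW a ha w hw) _ (inv_mem hw), hact a ha w hw, h]
      rw [← hπmul w hw _ (inv_mem hw), mul_inv_cancel]
      exact (hπker 1 (one_mem _)).2 (one_mem _)
    · intro h m
      obtain ⟨w, hw, rfl⟩ := hπsurj m
      have h2 := (hπker _ (mul_mem (hCW a ha w hw) (inv_mem hw))).2 (h w hw)
      rw [← hact a ha w hw]
      have h3 := hπmul _ (mul_mem (hCW a ha w hw) (inv_mem hw)) w hw
      rw [inv_mul_cancel_right, h2, one_mul] at h3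
      exact h3

section

variable [Finite G] {S : Sylow 2 G} {P V Z : Subgroup G} (h : PL S P V Z)
include h

theorem line_base {X : Subgroup G} (hX : IsCj Z X) (hXV : X ≤ V) (hne : X ≠ Z) {v : G} (hv : v ∈ V) :
    ∃ r ∈ Z, ∃ r' ∈ X, v = r * r' := h.exists_mul h.isCj_self h.ZV hX hXV hne.symm hv

/-- `N_G(Z)` = `C_G(Z) N_G(S)`: all lines on `Z` are conjugate in `C_G(Z)`. -/
theorem exists_cent_line (hns : normalizer ((S : Subgroup G) : Set G) ≤ normalizer (V : Set G)) {M : Subgroup G}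
    (hM : IsCj V M) (hZM : Z ≤ M) : ∃ c ∈ centralizer (Z : Set G), M = cj c V := by
  obtain ⟨g, hg, rfl⟩ := exists_conj_flag h h.isCj_self hM hZM
  have hgN : g ∈ normalizer (Z : Set G) := cj_eq_iff.1 hg.symm
  have h1 : cj g (S : Subgroup G) ≤ centralizer (Z : Set G) := by
    have h2 : cj g (S : Subgroup G) ≤ cj g (centralizer (Z : Set G)) := cj_le_cj.2 h.S_le
    rwa [cj_centralizer, ← hg] at h2
  obtain ⟨c, hc, hcS⟩ := exists_conj (S := S) (T := g • S) h.S_le h1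
  refine ⟨c, hc, ?_⟩
  have h2 : c⁻¹ * g ∈ normalizer ((S : Subgroup G) : Set G) := by
    have h3 : cj c (S : Subgroup G) = cj g (S : Subgroup G) := hcS
    rw [← cj_eq_iff, ← cj_cj, ← h3, cj_cj, inv_mul_cancel, cj_one]
  have h5 := cj_eq_iff.2 (hns h2)
  rw [← cj_cj] at h5
  have h6 := congrArg (cj c) h5
  rwa [cj_cj, mul_inv_cancel, cj_one] at h6

end

/-- `Z` as an abstract commutative group -/
theorem exists_group {Z : Subgroup G} (hc : ∀ a ∈ Z, ∀ b ∈ Z, a * b = b * a) :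
    ∃ (K : Type u) (_ : CommGroup K) (ζ : K →* G), Function.Injective ζ ∧ ∀ g, g ∈ Z ↔ ∃ r, ζ r = g := by
  let _ : CommGroup Z := { (inferInstance : Group Z) with mul_comm := fun a b => Subtype.ext (hc a a.2 b b.2) }
  refine ⟨Z, inferInstance, Z.subtype, Z.subtype_injective, fun g => ?_⟩
  constructor
  · intro hg
    exact ⟨⟨g, hg⟩, rfl⟩
  · rintro ⟨r, rfl⟩
    exact r.2

/-! ### Subgroups of `M` and of `M →* K` from a realisation -/

section geo

variable {X L : Type*} [MulAction G X] [MulAction G L]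
variable {inc : X → L → Prop} {R W : X → Subgroup G} {V : L → Subgroup G} {s t n : ℕ}
variable {H M K : Type*} [Group H] [CommGroup M] [MulDistribMulAction H M] [CommGroup K]
variable {p : X} {ρ : G → H} {π : G → M} (Re : Four.Real R W p ρ π)

/-- `π(B)` -/
def pim (B : Subgroup G) (hB : B ≤ W p) : Subgroup M where
  carrier := {m | ∃ b ∈ B, π b = m}
  one_mem' := ⟨1, one_mem _, π_one Re⟩
  mul_mem' := by
    rintro _ _ ⟨a, ha, rfl⟩ ⟨b, hb, rfl⟩
    exact ⟨a * b, mul_mem ha hb, Re.pmul a (hB ha) b (hB hb)⟩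
  inv_mem' := by
    rintro _ ⟨a, ha, rfl⟩
    exact ⟨a⁻¹, inv_mem ha, π_inv Re (hB ha)⟩

theorem mem_pim {B : Subgroup G} {hB : B ≤ W p} {m : M} : m ∈ pim Re B hB ↔ ∃ b ∈ B, π b = m := Iff.rfl

variable {ζ : K →* G} (hran : ∀ g, g ∈ R p ↔ ∃ r, ζ r = g)

/-- the homomorphisms `m ↦ [k, m]`, `k ∈ K_p` -/
def khat (π : G → M) (hran : ∀ g, g ∈ R p ↔ ∃ r, ζ r = g) : Subgroup (M →* K) where
  carrier := {φ | ∃ k ∈ centralizer (R p : Set G), ∀ w ∈ W p, k * w * k⁻¹ * w⁻¹ = ζ (φ (π w))}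
  one_mem' := ⟨1, one_mem _, fun w _ => by rw [MonoidHom.one_apply, map_one]; group⟩
  mul_mem' := by
    rintro φ ψ ⟨a, ha, ha'⟩ ⟨b, hb, hb'⟩
    refine ⟨a * b, mul_mem ha hb, fun w hw => ?_⟩
    have h1 : ζ (ψ (π w)) ∈ R p := (hran _).2 ⟨_, rfl⟩
    have h2 := mem_centralizer_iff.1 ha _ h1
    calc a * b * w * (a * b)⁻¹ * w⁻¹ = a * (b * w * b⁻¹ * w⁻¹) * a⁻¹ * (a * w * a⁻¹ * w⁻¹) := by group
      _ = ζ (ψ (π w)) * ζ (φ (π w)) := by rw [hb' w hw, ha' w hw, ← h2, mul_inv_cancel_right]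
      _ = ζ ((φ * ψ) (π w)) := by rw [MonoidHom.mul_apply, mul_comm, map_mul]
  inv_mem' := by
    rintro φ ⟨a, ha, ha'⟩
    refine ⟨a⁻¹, inv_mem ha, fun w hw => ?_⟩
    have h1 : (ζ (φ (π w)))⁻¹ ∈ R p := inv_mem ((hran _).2 ⟨_, rfl⟩)
    have h2 := mem_centralizer_iff.1 ha _ h1
    calc a⁻¹ * w * a⁻¹⁻¹ * w⁻¹ = a⁻¹ * (a * w * a⁻¹ * w⁻¹)⁻¹ * a := by group
      _ = a⁻¹ * ((ζ (φ (π w)))⁻¹ * a) := by rw [ha' w hw]; group
      _ = (ζ (φ (π w)))⁻¹ := by rw [h2, inv_mul_cancel_left]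
      _ = ζ (φ⁻¹ (π w)) := by rw [MonoidHom.inv_apply, map_inv]

theorem mem_khat {φ : M →* K} : φ ∈ khat (W := W) π hran ↔ ∃ k ∈ centralizer (R p : Set G),
    ∀ w ∈ W p, k * w * k⁻¹ * w⁻¹ = ζ (φ (π w)) := Iff.rfl

include Re in
/-- every element of `K_p` gives an element of `khat` -/
theorem exists_khat (D : Geom inc R W V s t) (hinj : Function.Injective ζ) (hRW : R p ≤ W p) {k : G}
    (hk : k ∈ centralizer (R p : Set G)) (hk' : ∀ w ∈ W p, k * w * k⁻¹ * w⁻¹ ∈ R p) :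
    ∃ φ ∈ khat (W := W) π hran, ∀ w ∈ W p, k * w * k⁻¹ * w⁻¹ = ζ (φ (π w)) := by
  have hc : ∀ a ∈ W p, ∀ b ∈ W p, a * b = b * a := D.comm p
  have key : ∀ v ∈ W p, ∀ w ∈ W p, π v = π w → k * v * k⁻¹ * v⁻¹ = k * w * k⁻¹ * w⁻¹ := by
    intro v hv w hw hvw
    have h1 := mem_mul_R Re hv hw hvw
    have h2 := mem_centralizer_iff.1 hk _ h1
    have h3 := hc _ (hRW h1) _ (hRW (hk' w hw))
    have h4 : v = v * w⁻¹ * w := by group
    calc k * v * k⁻¹ * v⁻¹ = k * (v * w⁻¹) * k⁻¹ * (k * w * k⁻¹ * w⁻¹) * (v * w⁻¹)⁻¹ := by group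
      _ = (v * w⁻¹) * (k * w * k⁻¹ * w⁻¹) * (v * w⁻¹)⁻¹ := by rw [← h2, mul_inv_cancel_right]
      _ = k * w * k⁻¹ * w⁻¹ := by rw [h3, mul_inv_cancel_right]
  have hmul : ∀ v ∈ W p, ∀ w ∈ W p, k * (v * w) * k⁻¹ * (v * w)⁻¹ = (k * v * k⁻¹ * v⁻¹) * (k * w * k⁻¹ * w⁻¹) := by
    intro v hv w hw
    have h3 := hc _ hv _ (hRW (hk' w hw))
    calc k * (v * w) * k⁻¹ * (v * w)⁻¹ = (k * v * k⁻¹ * v⁻¹) * (v * (k * w * k⁻¹ * w⁻¹) * v⁻¹) := by group
      _ = _ := by rw [h3, mul_inv_cancel_right]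
  choose r hr1 hr2 using Re.psurj
  have hz : ∀ m : M, ∃ z : K, ζ z = k * r m * k⁻¹ * (r m)⁻¹ := fun m => (hran _).1 (hk' _ (hr1 m))
  choose f hf using hz
  have hf' : ∀ w ∈ W p, k * w * k⁻¹ * w⁻¹ = ζ (f (π w)) := by
    intro w hw
    rw [hf]
    exact key w hw _ (hr1 _) (hr2 _).symm
  let φ : M →* K := MonoidHom.mk' f (by
    intro a b
    obtain ⟨v, hv, rfl⟩ := Re.psurj a
    obtain ⟨w, hw, rfl⟩ := Re.psurj b
    apply hinj
    rw [map_mul, ← hf' v hv, ← hf' w hw, ← Re.pmul v hv w hw, ← hf' _ (mul_mem hv hw), hmul v hv w hw])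
  exact ⟨φ, ⟨k, hk, hf'⟩, hf'⟩

end geo

section

variable [Finite G] {S : Sylow 2 G} {P V Z : Subgroup G} (h : PL S P V Z)
include h

set_option maxHeartbeats 1000000 in
/-- **The instance.** -/
theorem exists_rd (hf : ¬ kx V Z ≤ centralizer (V : Set G)) (hO : OmQ S V)
    (hns : normalizer ((S : Subgroup G) : Set G) ≤ normalizer (V : Set G)) (hq : 4 ≤ Nat.card Z) :
    ∃ (H M K : Type u) (_ : Group H) (_ : CommGroup M) (_ : MulDistribMulAction H M) (_ : CommGroup K)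
      (ρ : G → H) (π : G → M) (ζ : K →* G) (T : Subgroup H) (lam U : Subgroup M) (Kh : Subgroup (M →* K)),
      RD (inc (Z := Z) (V := V)) (fun x => x.sg) (fun x => ws V x.sg) (fun l => l.sg) (Pt.base Z) (Pt.base V)
        (S : Subgroup G) ρ π ζ T lam U Kh := by
  have D := geom h hf hO
  have hWn := normalizer_le_ws V Z
  have hCn : centralizer (Z : Set G) ≤ normalizer (Z : Set G) := centralizer_le_normalizer _
  have hWcomm : ∀ a ∈ ws V Z, ∀ b ∈ ws V Z, a * b = b * a := fun a ha b hb =>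
    (mem_centralizer_iff.1 (h.Wcomm ha) b hb).symm
  obtain ⟨H, M, iH, iM, iA, ρ, π, hρm, hρs, hρk, hπm, hπs, hπk, hact⟩ := exists_mod (C := centralizer (Z : Set G))
    (W := ws V Z) (R := Z) (fun c hc w hw => (mem_normalizer_iff.1 (hWn (hCn hc)) w).1 hw)
    (fun c hc w hw => (mem_normalizer_iff.1 (hCn hc) w).1 hw) hWcomm
  obtain ⟨K, iK, ζ, hinj, hran⟩ := exists_group (Z := Z) fun a ha b hb => h.Vcomm (h.ZV ha) (h.ZV hb)
  have Re : Four.Real (fun x : Pt Z => x.sg) (fun x => ws V x.sg) (Pt.base Z) ρ π :=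
    ⟨hρm, hρs, hρk, hπm, hπs, hπk, hact⟩
  have hran' : ∀ g, g ∈ (fun x : Pt Z => x.sg) (Pt.base Z) ↔ ∃ r, ζ r = g := hran
  have hVW : V ≤ ws V Z := h.V_le_ws h.ZV
  have hS : (S : Subgroup G) ≤ centralizer (Z : Set G) := h.S_le
  have hcen : ∀ {k}, k ∈ centralizer (Z : Set G) → ∀ z ∈ Z, k * z = z * k := fun hk z hz =>
    (mem_centralizer_iff.1 hk z hz).symm
  have hcm : ∀ {g w : G}, g ∈ centralizer (Z : Set G) → w ∈ ws V Z →
      (g * w * g⁻¹ * w⁻¹ ∈ Z ↔ ρ g • π w = π w) := fun hg hw => comm_mem_iff Re D hg hw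
  let T : Subgroup H := im Re (S : Subgroup G) hS
  let lam : Subgroup M := pim Re V hVW
  let U : Subgroup M := pim Re (IV V Z) h.IV_le_ws
  let Kh : Subgroup (M →* K) := khat (W := fun x : Pt Z => ws V x.sg) π hran'
  have hlam : ∀ m, m ∈ lam ↔ ∃ v ∈ V, π v = m := fun m => Iff.rfl
  have hlam1 : ∀ v ∈ V, π v ≠ 1 → v ∉ Z := fun v hv hv1 hvZ => hv1 ((hπk v (hVW hv)).2 hvZ)
  have hKx : ∀ k ∈ kx V Z, k ∈ centralizer (Z : Set G) ∧ ∀ w ∈ ws V Z, k * w * k⁻¹ * w⁻¹ ∈ Z := fun k hk =>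
    ⟨kx_le_cent hk, (mem_kx.1 hk).2⟩
  have hexK : ∀ k ∈ kx V Z, ∃ φ ∈ Kh, ∀ w ∈ ws V Z, k * w * k⁻¹ * w⁻¹ = ζ (φ (π w)) := fun k hk =>
    exists_khat Re hran' D hinj h.Z_le_ws (hKx k hk).1 (hKx k hk).2
  have hfinH : Finite H := Finite.of_surjective ρ fun x => by
    obtain ⟨g, -, hg⟩ := hρs x
    exact ⟨g, hg⟩
  have hfinM : Finite M := Finite.of_surjective π fun x => by
    obtain ⟨g, -, hg⟩ := hπs x
    exact ⟨g, hg⟩
  -- cardinality of `lam`
  have hcard : Nat.card lam = Nat.card Z := by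
    let φ : V →* M := MonoidHom.mk' (fun a => π a) (fun a b => hπm a (hVW a.2) b (hVW b.2))
    have h1 := Subgroup.card_mul_index φ.ker
    rw [Subgroup.index_ker] at h1
    have h2 : φ.range = lam := by
      ext m
      constructor
      · rintro ⟨a, rfl⟩
        exact ⟨a, a.2, rfl⟩
      · rintro ⟨a, ha, rfl⟩
        exact ⟨⟨a, ha⟩, rfl⟩
    have h3 : Nat.card φ.ker = Nat.card Z := by
      refine Nat.card_congr ⟨fun x => ⟨x, ?_⟩, fun x => ⟨⟨x, h.ZV x.2⟩, ?_⟩, fun x => rfl, fun x => rfl⟩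
      · exact (hπk _ (hVW x.1.2)).1 x.2
      · exact (hπk _ (hVW (h.ZV x.2))).2 x.2
    rw [h2, h3, h.card] at h1
    exact Nat.eq_of_mul_eq_mul_left Nat.card_pos h1
  have hcardK : Nat.card K = Nat.card Z := by
    refine Nat.card_congr ⟨fun x => ⟨ζ x, (hran _).2 ⟨x, rfl⟩⟩, fun x => ((hran _).1 x.2).choose,
      fun x => ?_, fun x => ?_⟩
    · exact hinj ((hran (ζ x)).1 ((hran _).2 ⟨x, rfl⟩)).choose_spec
    · exact Subtype.ext ((hran _).1 x.2).choose_spec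
  have hflag : Flag T lam U Kh := by
    refine ⟨hfinH, hfinM, ?_, ?_, hcardK.trans hcard.symm, ?_, ?_, ?_, hcard.symm ▸ hq, ?_, ?_, ?_, ?_, ?_, ?_,
      ?_, ?_, ?_⟩
    · -- sq
      intro m
      obtain ⟨w, hw, rfl⟩ := hπs m
      rw [← hπm w hw w hw, h.ws_sq w hw]
      exact π_one Re
    · -- sqR
      intro r
      apply hinj
      rw [map_mul, map_one]
      exact h.Vsq _ (h.ZV ((hran _).2 ⟨r, rfl⟩))
    · -- faith
      intro x hx
      obtain ⟨g, hg, rfl⟩ := hρs x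
      exact (hρk g hg).2 fun w hw => (hcm hg hw).2 (hx _)
    · -- two
      rintro ⟨_, s, hs, rfl⟩
      obtain ⟨k, hk⟩ := S.isPGroup' ⟨s, hs⟩
      have hk' : s ^ 2 ^ k = 1 := congrArg Subtype.val hk
      refine ⟨k, Subtype.ext ?_⟩
      show ρ s ^ 2 ^ k = 1
      have hpow : ∀ j : ℕ, ρ (s ^ j) = ρ s ^ j := by
        intro j
        induction j with
        | zero => rw [pow_zero, pow_zero, Re.one]
        | succ j ih => rw [pow_succ, pow_succ, hρm _ (pow_mem (hS hs) j) _ (hS hs), ih]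
      rw [← hpow, hk', Re.one]
    · -- ndvd
      have : Fact (Nat.Prime 2) := ⟨Nat.prime_two⟩
      let f : centralizer (Z : Set G) →* H := MonoidHom.mk' (fun a => ρ a) (fun a b => hρm a a.2 b b.2)
      have hfs : Function.Surjective f := fun x => by
        obtain ⟨g, hg, rfl⟩ := hρs x
        exact ⟨⟨g, hg⟩, rfl⟩
      let T' : Sylow 2 H := (S.subtype hS).mapSurjective hfs
      have hT' : (T' : Subgroup H) = T := by
        ext x
        constructor
        · rintro ⟨g, hg, rfl⟩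
          exact ⟨g, mem_subgroupOf.1 hg, rfl⟩
        · rintro ⟨g, hg, rfl⟩
          exact ⟨⟨g, hS hg⟩, mem_subgroupOf.2 hg, rfl⟩
      rw [← hT']
      exact T'.not_dvd_index
    · -- fix
      rintro _ ⟨s, hs, rfl⟩ _ ⟨v, hv, rfl⟩
      exact (hcm (hS hs) (hVW hv)).1 (h.act s hs v hv)
    · -- norm
      rintro x hx _ ⟨v, hv, rfl⟩
      obtain ⟨g, hg, rfl⟩ := hρs x
      have hSK : (S : Subgroup G) ≤ normalizer ((kx V Z : Subgroup G) : Set G) :=
        h.S_le_N.trans (normalizer_le_kx V Z)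
      have h1 : ((g • S : Sylow 2 G) : Subgroup G) ≤ kx V Z ⊔ S := by
        intro y hy
        rw [coe_smul, mem_cj] at hy
        have hyC : y ∈ centralizer (Z : Set G) := by
          have := mul_mem (mul_mem hg (hS hy)) (inv_mem hg)
          have e : g * (g⁻¹ * y * g) * g⁻¹ = y := by group
          rwa [e] at this
        have h2 : ρ g * ρ (g⁻¹ * y * g) * (ρ g)⁻¹ ∈ T := (mem_normalizer_iff.1 hx _).1 ⟨_, hy, rfl⟩
        have h3 : ρ g * ρ (g⁻¹ * y * g) * (ρ g)⁻¹ = ρ y := by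
          have h4 := Re.conj hg (hS hy)
          rw [← h4]
          congr 1; group
        rw [h3] at h2
        obtain ⟨s, hs, hs'⟩ := h2
        have h5 : y * s⁻¹ ∈ kx V Z := by
          have h6 : ρ (y * s⁻¹) = 1 := by
            rw [hρm y hyC s⁻¹ (inv_mem (hS hs)), Re.inv (hS hs), hs', mul_inv_cancel]
          have h7 := (hρk _ (mul_mem hyC (inv_mem (hS hs)))).1 h6
          exact mem_kx.2 ⟨fun z hz => hcen (mul_mem hyC (inv_mem (hS hs))) z hz, h7⟩
        have h8 : y = y * s⁻¹ * s := by group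
        rw [h8]
        exact mul_mem (mem_sup_left h5) (mem_sup_right hs)
      obtain ⟨b, hb, hbS⟩ := exists_conj (S := S) (T := g • S) (H := kx V Z ⊔ S) le_sup_right h1
      rw [← SetLike.mem_coe, coe_mul_of_right_le_normalizer_left _ _ hSK] at hb
      obtain ⟨k, hk, s, hs, rfl⟩ := hb
      have h2 : k⁻¹ * g ∈ normalizer ((S : Subgroup G) : Set G) := by
        have h3 : cj (k * s) (S : Subgroup G) = cj g (S : Subgroup G) := hbS
        rw [← cj_cj, cj_eq_iff.2 (le_normalizer hs)] at h3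
        rw [← cj_eq_iff, ← cj_cj, ← h3, cj_cj, inv_mul_cancel, cj_one]
      have hkC := (hKx k hk).1
      have h4 : ρ (k⁻¹ * g) = ρ g := by
        rw [hρm _ (inv_mem hkC) g hg, Re.inv hkC, (hρk k hkC).2 (hKx k hk).2, inv_one, one_mul]
      have h5 := (mem_normalizer_iff.1 (hns h2) v).1 hv
      refine ⟨_, h5, ?_⟩
      rw [hact _ (mul_mem (inv_mem hkC) hg) v (hVW hv), h4]
    · -- lin
      rintro _ ⟨v, hv, rfl⟩ hv1 x hx _ ⟨u, hu, rfl⟩
      obtain ⟨g, hg, rfl⟩ := hρs x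
      have hvZ := hlam1 v hv hv1
      rw [← hcm hg (hVW hv)] at hx
      rw [← hcm hg (hVW hu)]
      exact h.lin (hcen hg) hv hvZ hx u hu
    · -- gen
      intro N hN
      let E : Subgroup G :=
        { carrier := {w | w ∈ ws V Z ∧ π w ∈ N}
          one_mem' := ⟨one_mem _, by
            have e : π 1 = 1 := π_one Re
            rw [e]; exact one_mem _⟩
          mul_mem' := by
            rintro a b ⟨ha, ha'⟩ ⟨hb, hb'⟩
            exact ⟨mul_mem ha hb, by rw [hπm a ha b hb]; exact mul_mem ha' hb'⟩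
          inv_mem' := by
            rintro a ⟨ha, ha'⟩
            refine ⟨inv_mem ha, ?_⟩
            have e : π a⁻¹ = (π a)⁻¹ := π_inv Re ha
            rw [e]; exact inv_mem ha' }
      have hE : ws V Z ≤ E := by
        refine ws_le fun L hL hZL => ?_
        obtain ⟨c, hc, rfl⟩ := exists_cent_line h hns hL hZL
        intro w hw
        refine ⟨le_ws hL hZL hw, ?_⟩
        have hw' := mem_cj.1 hw
        have e : c * (c⁻¹ * w * c) * c⁻¹ = w := by group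
        have h1 := hact c hc _ (hVW hw')
        rw [e] at h1
        rw [h1]
        exact hN _ _ ⟨_, hw', rfl⟩
      rw [eq_top_iff]
      intro m _
      obtain ⟨w, hw, rfl⟩ := hπs m
      exact (hE hw).2
    · -- le
      rintro _ ⟨v, hv, rfl⟩
      exact ⟨v, h.V_le_IV hv, rfl⟩
    · -- uu
      rintro _ ⟨u, hu, rfl⟩ huV _ ⟨v, hv, rfl⟩
      have huV' : u ∉ V := fun e => huV ⟨u, e, rfl⟩
      obtain ⟨c, -, hcV, hcu⟩ := h.F2 hf hO hu huV' hv
      have hcC : c ∈ centralizer (Z : Set G) := centralizer_le h.ZV hcV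
      refine ⟨ρ c, ?_⟩
      rw [← hact c hcC u (h.IV_le_ws hu)]
      have e : c * u * c⁻¹ = v * u := by rw [← hcu]; group
      rw [e, hπm v (hVW hv) u (h.IV_le_ws hu), mul_comm]
    · -- kh
      rintro φ ⟨k, hk, hk'⟩ x
      obtain ⟨g, hg, rfl⟩ := hρs x
      refine ⟨φ.comp (MulDistribMulAction.toMonoidHom M (ρ g)), ⟨g⁻¹ * k * g, mul_mem (mul_mem (inv_mem hg) hk) hg,
        fun w hw => ?_⟩, fun m => rfl⟩
      have h1 := hk' (g * w * g⁻¹) ((mem_normalizer_iff.1 (hWn (hCn hg)) w).1 hw)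
      have h2 : ζ (φ (π (g * w * g⁻¹))) ∈ Z := (hran _).2 ⟨_, rfl⟩
      have h3 := mem_centralizer_iff.1 (inv_mem hg) _ h2
      calc g⁻¹ * k * g * w * (g⁻¹ * k * g)⁻¹ * w⁻¹
          = g⁻¹ * (k * (g * w * g⁻¹) * k⁻¹ * (g * w * g⁻¹)⁻¹) * g := by group
        _ = ζ (φ (π (g * w * g⁻¹))) := by rw [h1, ← h3, inv_mul_cancel_right]
        _ = ζ ((φ.comp (MulDistribMulAction.toMonoidHom M (ρ g))) (π w)) := by
            rw [hact g hg w hw]; rfl
    · -- f1
      rintro _ ⟨v, hv, rfl⟩ hv1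
      have hvZ := hlam1 v hv hv1
      obtain ⟨z, hz, hz1⟩ := h.pt_ne_bot h.isCj_self
      obtain ⟨k, hk, -, hkv⟩ := h.K_act hf hv hvZ hz
      obtain ⟨φ, hφ, hφk⟩ := hexK k hk
      refine ⟨φ, hφ, fun e => hz1 ?_⟩
      rw [← hkv, hφk v (hVW hv), e, map_one]
    · -- ti
      rintro φ ⟨k, hk, hk'⟩ _ ⟨v, hv, rfl⟩ hv1 hφ _ ⟨u, hu, rfl⟩
      have hvZ := hlam1 v hv hv1
      have h1 := hk' v (hVW hv)
      rw [hφ, map_one, mul_inv_eq_one, mul_inv_eq_iff_eq_mul] at h1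
      have h2 := h.mem_centralizer_of_fix (hcen hk) hv hvZ h1
      apply hinj
      rw [← hk' u (hVW hu), map_one, mul_inv_eq_one, mul_inv_eq_iff_eq_mul]
      exact (mem_centralizer_iff.1 h2 u hu).symm
  refine ⟨H, M, K, iH, iM, iA, iK, ρ, π, ζ, T, lam, U, Kh, ?_⟩
  refine { re := Re, pl := h.ZV, mlam := fun m => Iff.rfl, mU := ?_, cov := ?_, flag := hflag, sy := hS,
           mT := fun t => Iff.rfl, cen := ?_, inj := hinj, ran := hran, kh := fun φ hφ => hφ,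
           kh' := ?_, line := ?_, tr := ?_ }
  · -- mU
    intro m
    constructor
    · rintro ⟨u, hu, rfl⟩
      exact ⟨u, h.IV_le_ws hu, fun y hy => IV_le y.isCj hy hu, rfl⟩
    · rintro ⟨u, -, hu', rfl⟩
      refine ⟨u, ?_, rfl⟩
      rw [IV, Subgroup.mem_sInf]
      rintro _ ⟨Y, hY, hYV, rfl⟩
      exact hu' (Pt.mk hY) hYV
  · -- cov
    intro c hc
    obtain ⟨g, hg, rfl⟩ := hρs c
    obtain ⟨v, hv, hvZ⟩ := h.exists_out
    have h1 : g * v * g⁻¹ * v⁻¹ ∈ Z := (hcm hg (hVW hv)).2 (hc _ ⟨v, hv, rfl⟩)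
    obtain ⟨k, hk, -, hkv⟩ := h.K_act hf hv hvZ (Z.inv_mem h1)
    have hkC := (hKx k hk).1
    have h2 : k * g * v = v * (k * g) := by
      have e1 : g * v * g⁻¹ = (g * v * g⁻¹ * v⁻¹) * v := by group
      have e2 : k * v * k⁻¹ = (g * v * g⁻¹ * v⁻¹)⁻¹ * v := by rw [← hkv]; group
      have e3 := hcen hkC _ h1
      rw [← mul_inv_eq_iff_eq_mul]
      calc k * g * v * (k * g)⁻¹ = k * (g * v * g⁻¹) * k⁻¹ := by group
        _ = k * (g * v * g⁻¹ * v⁻¹) * v * k⁻¹ := by rw [e1]; group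
        _ = (g * v * g⁻¹ * v⁻¹) * (k * v * k⁻¹) := by rw [e3]; group
        _ = v := by rw [e2]; group
    refine ⟨k * g, h.mem_centralizer_of_fix (hcen (mul_mem hkC hg)) hv hvZ h2, ?_⟩
    rw [hρm k hkC g hg, (hρk k hkC).2 (hKx k hk).2, one_mul]
  · -- cen
    intro w hw hws
    exact h.omega w (h.ws_le_S hw) (h.ws_sq w hw) hws
  · -- kh'
    intro k hk hk'
    exact exists_khat Re hran' D hinj h.Z_le_ws hk hk'
  · -- line
    intro x hx hxp v hv
    exact line_base h x.isCj hx (fun e => hxp (Pt.ext e)) hv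
  · -- tr
    intro x y hx hxp hy hyp
    obtain ⟨k, hk, -, hk'⟩ := h.K_trans hf y.isCj hy x.isCj hx (fun e => hyp (Pt.ext e)) (fun e => hxp (Pt.ext e))
    exact ⟨k, (hKx k hk).1, (hKx k hk).2, Pt.ext hk'⟩

/-- every flag of `PtGeom` is conjugate to the base flag -/
theorem exists_smul_flag {x : Pt Z} {l : Pt V} (hxl : inc x l) : ∃ g : G, x = g • Pt.base Z ∧ l = g • Pt.base V := by
  obtain ⟨g, h1, h2⟩ := exists_conj_flag h x.isCj l.isCj hxl
  exact ⟨g, Pt.ext h1, Pt.ext h2⟩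

end

end Cfsg.Agent.Omega.NO3S.FarQ

end

section


/-!
# FarQ: the assembly of (4.0), and `NS` / `SP` for all flags (TEXT 263-Q)

* `Ext inc R W V p l ρ π T Kh S κ` : the data at the flag `(p, l)` besides `Glue.RF`; `Ext.smul` : transport;
* `phi` : the maps `e ↦ [e, g']`, `e ∈ E`, for `g' ∈ C_G(R_p)` acting trivially on `E`; `phi_mul`, `phi_inv`,
  `phi_f1`, `phi_ti`, `phi_alt` : the hypotheses of `GoodB`;
* `d_base` : (4.0) at the flag `(p, l)`; `ns`, `sp` : `Asm.NS`, `Asm.SP` everywhere.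
-/

set_option autoImplicit false
set_option linter.unusedSectionVars false

namespace Cfsg.Agent.Omega.NO3S.FarQ.Plug

open Subgroup Cfsg Cfsg.Agent.ZN Cfsg.Agent.MinSimple.VModule Cfsg.Agent.Omega.NOThree.Pts
open Cfsg.Agent.Omega.NO3S.FarQ Cfsg.Agent.Omega.NO3S.FarQ.Asm Cfsg.Agent.Omega.NO3S.FarQ.Glue
open Cfsg.Agent.Omega.NO3S.PT (cj mem_cj conj_mem_cj)

variable {G X L : Type*} [Group G] [MulAction G X] [MulAction G L]
variable {inc : X → L → Prop} {R W : X → Subgroup G} {V : L → Subgroup G} {s t n : ℕ}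
variable {H M K : Type*} [Group H] [CommGroup M] [MulDistribMulAction H M] [CommGroup K]

/-- **The data at the flag `(p, l)` besides `RF`**: `κ : R_p → K` an isomorphism, `S` a Sylow 2-subgroup. -/
structure Ext (inc : X → L → Prop) (R W : X → Subgroup G) (V : L → Subgroup G) (p : X) (l : L)
    (ρ : G → H) (π : G → M) (T : Subgroup H) (Kh : Subgroup (M →* K)) (S : Subgroup G) (κ : G → K) : Prop where
  line : ∀ y, inc y l → y ≠ p → ∀ v ∈ V l, ∃ r ∈ R p, ∃ r' ∈ R y, v = r * r'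
  tr : ∀ y z, inc y l → y ≠ p → inc z l → z ≠ p → ∃ k ∈ centralizer (R p : Set G),
    (∀ w ∈ W p, k * w * k⁻¹ * w⁻¹ ∈ R p) ∧ k • y = z
  cS : S ≤ centralizer (R p : Set G)
  ST : ∀ g ∈ S, ρ g ∈ T
  fS : ∀ u ∈ W p, (∀ g ∈ S, g * u = u * g) → u ∈ R p
  kmul : ∀ a ∈ R p, ∀ b ∈ R p, κ (a * b) = κ a * κ b
  kker : ∀ a ∈ R p, κ a = 1 → a = 1
  kh : ∀ φ ∈ Kh, ∃ k ∈ centralizer (R p : Set G), ∀ w ∈ W p,
    k * w * k⁻¹ * w⁻¹ ∈ R p ∧ φ (π w) = κ (k * w * k⁻¹ * w⁻¹)

section smul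

variable {p : X} {l : L} {ρ : G → H} {π : G → M} {T : Subgroup H} {Kh : Subgroup (M →* K)} {S : Subgroup G}
  {κ : G → K}

/-- Transport. -/
theorem Ext.smul (D : Geom inc R W V s t) (E : Ext inc R W V p l ρ π T Kh S κ) (g : G) :
    Ext inc R W V (g • p) (g • l) (fun a => ρ (g⁻¹ * a * g)) (fun w => π (g⁻¹ * w * g)) T Kh (cj g S)
      (fun a => κ (g⁻¹ * a * g)) := by
  have mR : ∀ {x : X} {a : G}, a ∈ R (g • x) ↔ g⁻¹ * a * g ∈ R x := D.R_smul_iff g
  have mW : ∀ {x : X} {a : G}, a ∈ W (g • x) ↔ g⁻¹ * a * g ∈ W x := D.W_smul_iff g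
  have hc' : ∀ {a}, a ∈ centralizer (R p : Set G) → g * a * g⁻¹ ∈ centralizer (R (g • p) : Set G) := by
    intro a ha
    rw [mem_centralizer_iff] at ha ⊢
    intro r hr
    have h1 := ha _ (mR.1 hr)
    calc r * (g * a * g⁻¹) = g * ((g⁻¹ * r * g) * a) * g⁻¹ := by group
      _ = g * (a * (g⁻¹ * r * g)) * g⁻¹ := by rw [h1]
      _ = g * a * g⁻¹ * r := by group
  have hi : ∀ {y : X}, inc y (g • l) → inc (g⁻¹ • y) l := by
    intro y hy
    have := D.inc_smul g⁻¹ _ _ hy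
    rwa [inv_smul_smul] at this
  have hne : ∀ {y : X}, y ≠ g • p → g⁻¹ • y ≠ p := by
    intro y hy e
    exact hy (by rw [← e, smul_inv_smul])
  refine ⟨?_, ?_, ?_, ?_, ?_, ?_, ?_, ?_⟩
  · intro y hy hyp v hv
    have hv' : g⁻¹ * v * g ∈ V l := by
      have := D.V_smul g⁻¹ _ v hv
      rwa [inv_smul_smul, inv_inv] at this
    obtain ⟨r, hr, r', hr', e⟩ := E.line _ (hi hy) (hne hyp) _ hv'
    refine ⟨g * r * g⁻¹, D.R_smul g p r hr, g * r' * g⁻¹, ?_, ?_⟩
    · have := D.R_smul g _ r' hr'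
      rwa [smul_inv_smul] at this
    · calc v = g * (g⁻¹ * v * g) * g⁻¹ := by group
        _ = g * r * g⁻¹ * (g * r' * g⁻¹) := by rw [e]; group
  · intro y z hy hyp hz hzp
    obtain ⟨k, hk, hk1, hk2⟩ := E.tr _ _ (hi hy) (hne hyp) (hi hz) (hne hzp)
    refine ⟨g * k * g⁻¹, hc' hk, fun w hw => ?_, ?_⟩
    · rw [mR]
      have e : g⁻¹ * (g * k * g⁻¹ * w * (g * k * g⁻¹)⁻¹ * w⁻¹) * g =
          k * (g⁻¹ * w * g) * k⁻¹ * (g⁻¹ * w * g)⁻¹ := by group
      rw [e]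
      exact hk1 _ (mW.1 hw)
    · rw [mul_smul, mul_smul, hk2, smul_inv_smul]
  · intro a ha
    have h1 := hc' (E.cS (mem_cj.1 ha))
    have e : g * (g⁻¹ * a * g) * g⁻¹ = a := by group
    rwa [e] at h1
  · intro a ha
    exact E.ST _ (mem_cj.1 ha)
  · intro u hu h
    rw [mR]
    refine E.fS _ (mW.1 hu) fun a ha => ?_
    have h1 := h _ (conj_mem_cj (g := g) ha)
    calc a * (g⁻¹ * u * g) = g⁻¹ * (g * a * g⁻¹ * u) * g := by group
      _ = g⁻¹ * (u * (g * a * g⁻¹)) * g := by rw [h1]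
      _ = g⁻¹ * u * g * a := by group
  · intro a ha b hb
    have e : g⁻¹ * (a * b) * g = (g⁻¹ * a * g) * (g⁻¹ * b * g) := by group
    show κ (g⁻¹ * (a * b) * g) = _
    rw [e, E.kmul _ (mR.1 ha) _ (mR.1 hb)]
  · intro a ha h
    have h1 := E.kker _ (mR.1 ha) h
    calc a = g * (g⁻¹ * a * g) * g⁻¹ := by group
      _ = 1 := by rw [h1]; group
  · intro φ hφ
    obtain ⟨k, hk, hk1⟩ := E.kh φ hφ
    refine ⟨g * k * g⁻¹, hc' hk, fun w hw => ?_⟩
    have e : g⁻¹ * (g * k * g⁻¹ * w * (g * k * g⁻¹)⁻¹ * w⁻¹) * g =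
        k * (g⁻¹ * w * g) * k⁻¹ * (g⁻¹ * w * g)⁻¹ := by group
    obtain ⟨h1, h2⟩ := hk1 _ (mW.1 hw)
    refine ⟨by rw [mR, e]; exact h1, ?_⟩
    show φ (π (g⁻¹ * w * g)) = κ (g⁻¹ * (g * k * g⁻¹ * w * (g * k * g⁻¹)⁻¹ * w⁻¹) * g)
    rw [e, h2]

end smul

/-! ### The group `Φ` -/

section phi

variable {p : X} {ρ : G → H} {π : G → M} {κ : G → K} (D : Geom inc R W V s t) (Re : Four.Real R W p ρ π)
  (kmul : ∀ a ∈ R p, ∀ b ∈ R p, κ (a * b) = κ a * κ b)

include D Re in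
/-- `[g', u]` for `g'` fixing `π u` -/
theorem mem_R {g u : G} (hg : g ∈ centralizer (R p : Set G)) (hu : u ∈ W p) (h : ρ g • π u = π u) :
    g * u * g⁻¹ * u⁻¹ ∈ R p := (comm_mem_iff Re D hg hu).2 h

/-- The maps `e ↦ [e, g']`, `e ∈ E`, for `g' ∈ C_G(R_p)` acting trivially on `E`. -/
def phi (D : Geom inc R W V s t) (Re : Four.Real R W p ρ π)
    (kmul : ∀ a ∈ R p, ∀ b ∈ R p, κ (a * b) = κ a * κ b) (E : Subgroup M) : Subgroup (M → K) where
  carrier := {φ | ∃ g ∈ centralizer (R p : Set G), (∀ e ∈ E, ρ g • e = e) ∧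
    ∀ u ∈ W p, π u ∈ E → φ (π u) = κ (g * u * g⁻¹ * u⁻¹)}
  one_mem' := by
    refine ⟨1, one_mem _, fun e _ => by rw [Re.one, one_smul], fun u _ _ => ?_⟩
    have h1 := kmul 1 (one_mem _) 1 (one_mem _)
    rw [mul_one, left_eq_mul] at h1
    show (1 : K) = _
    rw [one_mul, inv_one, mul_one, mul_inv_cancel, h1]
  mul_mem' := by
    rintro φ ψ ⟨g, hg, h1, h2⟩ ⟨g', hg', h1', h2'⟩
    refine ⟨g * g', mul_mem hg hg', fun e he => by rw [Re.mul g hg g' hg', mul_smul, h1' e he, h1 e he],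
      fun u hu hue => ?_⟩
    have m1 := mem_R D Re hg hu (h1 _ hue)
    have m2 := mem_R D Re hg' hu (h1' _ hue)
    have e1 : g * g' * u * (g * g')⁻¹ * u⁻¹ = (g * u * g⁻¹ * u⁻¹) * (g' * u * g'⁻¹ * u⁻¹) := by
      have e2 : g * (g' * u * g'⁻¹ * u⁻¹) * g⁻¹ = g' * u * g'⁻¹ * u⁻¹ := by
        rw [← mem_centralizer_iff.1 hg _ m2, mul_inv_cancel_right]
      have e3 : (g' * u * g'⁻¹ * u⁻¹) * (g * u * g⁻¹ * u⁻¹) = (g * u * g⁻¹ * u⁻¹) * (g' * u * g'⁻¹ * u⁻¹) :=
        D.comm p _ (D.R_le_W p m2) _ (D.R_le_W p m1)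
      calc g * g' * u * (g * g')⁻¹ * u⁻¹ = g * (g' * u * g'⁻¹ * u⁻¹) * g⁻¹ * (g * u * g⁻¹ * u⁻¹) := by group
        _ = _ := by rw [e2, e3]
    show φ (π u) * ψ (π u) = _
    rw [e1, kmul _ m1 _ m2, h2 u hu hue, h2' u hu hue]
  inv_mem' := by
    rintro φ ⟨g, hg, h1, h2⟩
    have h3 : ∀ e ∈ E, ρ g⁻¹ • e = e := fun e he => by
      rw [Re.inv hg, inv_smul_eq_iff, h1 e he]
    refine ⟨g⁻¹, inv_mem hg, h3, fun u hu hue => ?_⟩
    have m1 := mem_R D Re hg hu (h1 _ hue)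
    have m2 := mem_R D Re (inv_mem hg) hu (h3 _ hue)
    have e1 : (g * u * g⁻¹ * u⁻¹) * (g⁻¹ * u * g⁻¹⁻¹ * u⁻¹) = 1 := by
      have e2 : g⁻¹ * (g * u * g⁻¹ * u⁻¹) * g = g * u * g⁻¹ * u⁻¹ := by
        rw [mul_assoc, mem_centralizer_iff.1 hg _ m1, inv_mul_cancel_left]
      nth_rewrite 1 [← e2]
      group
    have h4 := kmul _ m1 _ m2
    have h5 := kmul 1 (one_mem _) 1 (one_mem _)
    rw [mul_one, left_eq_mul] at h5
    rw [e1, h5] at h4
    show (φ (π u))⁻¹ = _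
    rw [h2 u hu hue]
    exact inv_eq_of_mul_eq_one_right h4.symm

variable {E : Subgroup M}

theorem phi_mul {φ : M → K} (hφ : φ ∈ phi D Re kmul E) {x y : M} (hx : x ∈ E) (hy : y ∈ E) :
    φ (x * y) = φ x * φ y := by
  obtain ⟨g, hg, h1, h2⟩ := hφ
  obtain ⟨u, hu, rfl⟩ := Re.psurj x
  obtain ⟨v, hv, rfl⟩ := Re.psurj y
  have m1 := mem_R D Re hg hu (h1 _ hx)
  have m2 := mem_R D Re hg hv (h1 _ hy)
  rw [h2 u hu hx, h2 v hv hy, ← Re.pmul u hu v hv,
    h2 _ (mul_mem hu hv) (by rw [Re.pmul u hu v hv]; exact mul_mem hx hy), ← kmul _ m1 _ m2]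
  congr 1
  have e1 : u * (g * v * g⁻¹ * v⁻¹) * u⁻¹ = g * v * g⁻¹ * v⁻¹ := by
    rw [D.comm p u hu _ (D.R_le_W p m2), mul_inv_cancel_right]
  calc g * (u * v) * g⁻¹ * (u * v)⁻¹ = (g * u * g⁻¹ * u⁻¹) * (u * (g * v * g⁻¹ * v⁻¹) * u⁻¹) := by group
    _ = _ := by rw [e1]

theorem phi_inv {J : Subgroup H} (hE : ∀ j ∈ J, ∀ e ∈ E, j • e ∈ E) {φ : M → K} (hφ : φ ∈ phi D Re kmul E)
    {j : H} (hj : j ∈ J) : ∃ ψ ∈ phi D Re kmul E, ∀ x ∈ E, ψ x = φ (j • x) := by
  refine ⟨fun x => φ (j • x), ?_, fun _ _ => rfl⟩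
  obtain ⟨g, hg, h1, h2⟩ := hφ
  obtain ⟨a, ha, rfl⟩ := Re.surj j
  refine ⟨a⁻¹ * g * a, mul_mem (mul_mem (inv_mem ha) hg) ha, fun e he => ?_, fun u hu hue => ?_⟩
  · rw [Re.mul _ (mul_mem (inv_mem ha) hg) _ ha, Re.mul _ (inv_mem ha) _ hg, Re.inv ha, mul_smul, mul_smul,
      h1 _ (hE _ hj e he), inv_smul_smul]
  · show φ (ρ a • π u) = _
    have h3 := hE _ hj _ hue
    rw [← Re.act a ha u hu] at h3 ⊢
    have h4 := Four.norm_p D ha hu
    have m1 := mem_R D Re hg h4 (h1 _ h3)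
    rw [h2 _ h4 h3]
    congr 1
    have e1 : a⁻¹ * (g * (a * u * a⁻¹) * g⁻¹ * (a * u * a⁻¹)⁻¹) * a =
        g * (a * u * a⁻¹) * g⁻¹ * (a * u * a⁻¹)⁻¹ := by
      rw [mul_assoc a⁻¹ _ a, mem_centralizer_iff.1 ha _ m1, inv_mul_cancel_left]
    rw [← e1]
    group

variable {l : L} {lam U : Subgroup M} {T : Subgroup H} {Kh : Subgroup (M →* K)} {S : Subgroup G}

/-- the functionals of `Kh` are in `Φ` -/
theorem kh_mem (Ex : Ext inc R W V p l ρ π T Kh S κ) {φ : M →* K} (hφ : φ ∈ Kh) :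
    (fun m => φ m) ∈ phi D Re kmul E := by
  obtain ⟨k, hk, hk1⟩ := Ex.kh φ hφ
  refine ⟨k, hk, fun e _ => ?_, fun u hu _ => (hk1 u hu).2⟩
  obtain ⟨u, hu, rfl⟩ := Re.psurj e
  exact (comm_mem_iff Re D hk hu).1 (hk1 u hu).1

theorem phi_ti (F : RF inc R W V p l ρ π lam U) (Ex : Ext inc R W V p l ρ π T Kh S κ) {y : X} (hy : inc y l)
    (hyp : y ≠ p) {φ : M → K} (hφ : φ ∈ phi D Re kmul E) {x : H} {a b : M}
    (ha : a ∈ lam) (ha1 : a ≠ 1) (hxa : x • a ∈ E) (h : φ (x • a) = 1) (hb : b ∈ lam) (hxb : x • b ∈ E) :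
    φ (x • b) = 1 := by
  obtain ⟨g, hg, h1, h2⟩ := hφ
  obtain ⟨c, hc, rfl⟩ := Re.surj x
  -- lifts in `R_y`
  have lift : ∀ a ∈ lam, ∃ r ∈ R y, π r = a := by
    intro a ha
    obtain ⟨v, hv, rfl⟩ := (F.mlam a).1 ha
    obtain ⟨r, hr, r', hr', rfl⟩ := Ex.line y hy hyp v hv
    refine ⟨r', hr', ?_⟩
    have e1 := D.R_le_W p hr
    have e2 := Four.R_le_Wp D hy F.pl hr'
    rw [Re.pmul _ e1 _ e2, (Re.pker r e1).2 hr, one_mul]
  obtain ⟨r, hr, rfl⟩ := lift a ha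
  obtain ⟨r', hr', rfl⟩ := lift b hb
  have hrW := Four.R_le_Wp D hy F.pl hr
  have hrW' := Four.R_le_Wp D hy F.pl hr'
  have hu := Four.norm_p D hc hrW
  have hu' := Four.norm_p D hc hrW'
  rw [← Re.act c hc _ hrW] at hxa h
  rw [← Re.act c hc _ hrW'] at hxb ⊢
  have m1 := mem_R D Re hg hu (h1 _ hxa)
  have m2 := mem_R D Re hg hu' (h1 _ hxb)
  rw [h2 _ hu hxa] at h
  have h3 := Ex.kker _ m1 h
  have hr1 : r ≠ 1 := by
    rintro rfl
    exact ha1 ((Re.pker 1 (one_mem _)).2 (one_mem _))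
  have h4 : g • c • y = c • y := by
    refine D.fix (D.R_smul c y r hr) (fun e => hr1 (conj_eq_one_iff.1 e)) ?_
    exact comm_eq_one.1 h3
  have h5 : g * (c * r' * c⁻¹) * g⁻¹ * (c * r' * c⁻¹)⁻¹ ∈ R (c • y) :=
    mul_mem (D.norm_R h4 (D.R_smul c y r' hr')) (inv_mem (D.R_smul c y r' hr'))
  have h6 : g * (c * r' * c⁻¹) * g⁻¹ * (c * r' * c⁻¹)⁻¹ = 1 := by
    by_contra h7
    apply hyp
    have h8 : c • y = p := D.ti _ _ _ h5 m2 h7
    have h9 : c • y = c • p := by rw [h8, Four.fix_p D hc]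
    exact smul_left_cancel c h9
  have h7 := kmul 1 (one_mem _) 1 (one_mem _)
  rw [mul_one, left_eq_mul] at h7
  rw [h2 _ hu' hxb, h6, h7]

/-- a map of `Φ` moving the image of `u₀` -/
theorem exists_phi {g u₀ : G} (hg : g ∈ centralizer (R p : Set G)) (h1 : ∀ e ∈ E, ρ g • e = e) (hu₀ : u₀ ∈ W p)
    (hE : π u₀ ∈ E) (kker : ∀ a ∈ R p, κ a = 1 → a = 1) (h : g * u₀ ≠ u₀ * g) :
    ∃ φ ∈ phi D Re kmul E, φ (π u₀) ≠ 1 := by
  classical
  choose f hf hf' using Re.psurj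
  have key : ∀ u ∈ W p, π u ∈ E → g * f (π u) * g⁻¹ * (f (π u))⁻¹ = g * u * g⁻¹ * u⁻¹ := by
    intro u hu _
    have h2 : f (π u) * u⁻¹ ∈ R p := mem_mul_R Re (hf _) hu (hf' _)
    have h3 := mem_centralizer_iff.1 hg _ h2
    have h5 : g * (f (π u) * u⁻¹) * g⁻¹ = f (π u) * u⁻¹ := by rw [← h3, mul_inv_cancel_right]
    have h6 : g * f (π u) * g⁻¹ = f (π u) * u⁻¹ * (g * u * g⁻¹) := by
      calc g * f (π u) * g⁻¹ = g * (f (π u) * u⁻¹) * g⁻¹ * (g * u * g⁻¹) := by group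
        _ = _ := by rw [h5]
    have h7 : f (π u) * u⁻¹ * (g * u * g⁻¹) = (g * u * g⁻¹) * (f (π u) * u⁻¹) :=
      D.comm p _ (D.R_le_W p h2) _ (Four.norm_p D hg hu)
    have h8 : f (π u) * u⁻¹ = u⁻¹ * f (π u) := D.comm p _ (hf _) _ (inv_mem hu)
    rw [h6, h7, h8]
    group
  refine ⟨fun m => κ (g * f m * g⁻¹ * (f m)⁻¹), ⟨g, hg, h1, fun u hu hue => ?_⟩, ?_⟩
  · show κ (g * f (π u) * g⁻¹ * (f (π u))⁻¹) = _
    rw [key u hu hue]
  · show κ (g * f (π u₀) * g⁻¹ * (f (π u₀))⁻¹) ≠ 1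
    rw [key u₀ hu₀ hE]
    intro h2
    exact h (comm_eq_one.1 (kker _ (mem_R D Re hg hu₀ (h1 _ hE)) h2))

end phi

/-! ### (4.0) -/

/-- The separation property of `(g, f)`: the hypothesis of `Four.Real.low`. -/
def Sep (R W : X → Subgroup G) (p : X) (ρ : G → H) (π : G → M) (A : Subgroup H) (lam : Subgroup M)
    (g α : H) : Prop :=
  ∃ a ∈ lam, a ≠ 1 ∧ ∃ h ∈ closure {x | ∃ c ∈ fixer lam, ∃ y ∈ A, x = c * y * c⁻¹}, ∃ g' ∈ centralizer (R p : Set G),
    (∀ u ∈ W p, π u = g • a → g' * u = u * g') ∧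
    (∀ u ∈ W p, π u = (α • g • a) * (g • a)⁻¹ → g' * u = u * g') ∧
    ∀ u ∈ W p, π u = ((g * h * g⁻¹) • ((α • g • a) * (g • a)⁻¹)) * ((α • g • a) * (g • a)⁻¹)⁻¹ →
      g' * u * g'⁻¹ * u⁻¹ ∈ R p ∧ g' * u ≠ u * g'

section base

variable {p q y : X} {l : L} {ρ : G → H} {π : G → M} {T : Subgroup H} {lam U : Subgroup M}
  {Kh : Subgroup (M →* K)} {S : Subgroup G} {κ : G → K}
variable [Finite G] (D : Geom inc R W V s t) (F : RF inc R W V p l ρ π lam U)
  (E : Ext inc R W V p l ρ π T Kh S κ)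
include D F E

/-- the flag of `Four` -/
theorem flag (hy : inc y l) (hyp : y ≠ p) (hc : Com W q y) : Four.Flag inc R W V p y q l := by
  refine ⟨F.pl, hy, hyp, ?_, hc, E.line y hy hyp, fun z hz hzp => E.tr z y hz hzp hy hyp⟩
  intro f hf
  rw [mem_centralizer_iff]
  intro r hr
  exact (hc f hf r (D.V_le y l hy (D.R_le p l F.pl hr))).symm

/-- **(4.0), the `G`-side**, from its abstract half. -/
theorem d_of (hinv : ∀ (p x : X) (m : L), inc p m → inc x m → x ≠ p → ∀ g ∈ centralizer (R p : Set G), g * g = 1 → g • x = x →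
      ∀ u ∈ R x, g * u = u * g)
    (hp : ExP inc R W V n p q) (hn : 2 ≤ n) (hy : Walk inc (n - 1) q y) (hyl : inc y l)
    (hA : W q ≤ centralizer (R p : Set G)) {g : H}
    (h1 : ∃ a ∈ lam, ∃ α ∈ im F.re (W q) hA, α • g • a ≠ g • a)
    (h2 : im F.re (W q) hA ≤ closure {α | α ∈ im F.re (W q) hA ∧
      ((∀ a ∈ lam, α • g • a = g • a) ∨ Sep R W p ρ π (im F.re (W q) hA) lam g α)}) :
    ∃ x m, inc x m ∧ inc p m ∧ (∃ f ∈ W q, f • x ≠ x) ∧
      W q ≤ closure {f | f ∈ W q ∧ (f • x = x ∨ ∀ a ∈ W x, a ∈ W (f • x) → a ∈ W p)} := by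
  have Re := F.re
  have hyp : y ≠ p := hp.crit.symm.ne_last (by omega) hy
  have hc : Com W q y := hp.crit.symm.com_last (by omega) hy
  have F4 := flag D F E hyl hyp hc
  obtain ⟨c, hcR, rfl⟩ := Re.surj g
  have i1 : inc (c • y) (c • l) := D.inc_smul c _ _ hyl
  have i2 : inc p (c • l) := by
    have := D.inc_smul c _ _ F.pl
    rwa [Four.fix_p D hcR] at this
  -- lifts
  have lift : ∀ a ∈ lam, ∃ u ∈ R (c • y), π u = ρ c • a := by
    intro a ha
    obtain ⟨r, hr, hra⟩ := Re.exists_lift D F4 (a := a) ((F.mlam a).1 ha)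
    refine ⟨c * r * c⁻¹, D.R_smul c y r hr, ?_⟩
    rw [Re.act c hcR r (Four.R_le_Wp D hyl F.pl hr), hra]
  refine ⟨c • y, c • l, i1, i2, ?_, ?_⟩
  · obtain ⟨a, ha, _, ⟨f, hf, rfl⟩, hne⟩ := h1
    refine ⟨f, hf, fun h0 => hne ?_⟩
    obtain ⟨u, hu, hua⟩ := lift a ha
    have hne' : c • y ≠ p := by
      intro e
      apply hyp
      have h4 : c • y = c • p := by rw [e, Four.fix_p D hcR]
      exact smul_left_cancel c h4
    have h3 := hinv p _ _ i2 i1 hne' f (hA hf) (D.sq q f hf) h0 u hu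
    rw [← hua, ← Re.act f (hA hf) u (Four.R_le_Wp D i1 i2 hu), h3, mul_inv_cancel_right]
  · set B := closure {f | f ∈ W q ∧ (f • c • y = c • y ∨ ∀ a ∈ W (c • y), a ∈ W (f • c • y) → a ∈ W p)} with hB
    have hBW : B ≤ W q := (closure_le _).2 fun f hf => hf.1
    have key : im F.re (W q) hA ≤ im F.re B (hBW.trans hA) := by
      refine h2.trans ((closure_le _).2 ?_)
      rintro _ ⟨⟨f, hf, rfl⟩, h3⟩
      refine ⟨f, subset_closure ⟨hf, ?_⟩, rfl⟩
      rcases h3 with h3 | ⟨a, ha, ha1, h, hh, g', hg', k1, k2, k3⟩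
      · by_cases h4 : f • c • y = c • y
        · exact Or.inl h4
        · right
          obtain ⟨r, hr, hr1⟩ := D.exists_ne y
          have hu := D.R_smul c y r hr
          have huW := Four.R_le_Wp D i1 i2 hu
          have hm : f * (c * r * c⁻¹) * f⁻¹ * (c * r * c⁻¹)⁻¹ ∈ R p := by
            rw [comm_mem_iff Re D (hA hf) huW, Re.act c hcR r (Four.R_le_Wp D hyl F.pl hr)]
            exact h3 _ ((F.mlam _).2 ⟨r, D.R_le y l hyl hr, rfl⟩)
          have h5 : f * (c * r * c⁻¹) * f⁻¹ ∈ V (c • l) := by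
            have h6 := mul_mem (D.R_le p _ i2 hm) (D.R_le _ _ i1 hu)
            rwa [inv_mul_cancel_right] at h6
          obtain ⟨z, hz, hfz⟩ := D.cover _ _ h5
          have h6 : f • c • y = z := D.ti _ _ _ (D.R_smul f _ _ hu) hfz fun h0 =>
            hr1 (conj_eq_one_iff.1 (conj_eq_one_iff.1 h0))
          intro b hb hb'
          exact D.inf_le i1 (h6 ▸ hz) i2 (Ne.symm h4) ⟨hb, hb'⟩
      · right
        have h4 := Re.low D F4 (a := a) ((F.mlam a).1 ha) ha1 hcR hf (h := ρ c * h * (ρ c)⁻¹) (by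
          have e : (ρ c)⁻¹ * (ρ c * h * (ρ c)⁻¹) * ρ c = h := by group
          rw [e]
          refine Subgroup.closure_mono ?_ hh
          rintro _ ⟨d, hd, _, ⟨f', hf', rfl⟩, rfl⟩
          exact ⟨f', hf', d, fun a ha => hd a ((F.mlam a).2 ha), rfl⟩) rfl rfl hg' k1 k2 k3
        intro b hb hb'
        exact h4.2.2.2 ⟨hb, hb'⟩
    intro f hf
    obtain ⟨b, hb, hbf⟩ := key ⟨f, hf, rfl⟩
    have hbq := hBW hb
    have h3 : ρ (f * b⁻¹) = 1 := by
      rw [Re.mul f (hA hf) _ (inv_mem (hA hbq)), Re.inv (hA hbq), hbf, mul_inv_cancel]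
    have h4 := hp.good (f * b⁻¹) (mul_mem hf (inv_mem hbq))
      ((Re.ker _ (mul_mem (hA hf) (inv_mem (hA hbq)))).1 h3)
    have h5 : (f * b⁻¹) • c • y = c • y :=
      D.fix_of_centralizes fun r hr => h4 r (Four.R_le_Wp D i1 i2 hr)
    have h6 : f * b⁻¹ ∈ B := subset_closure ⟨mul_mem hf (inv_mem hbq), Or.inl h5⟩
    have h7 := mul_mem h6 hb
    rwa [inv_mul_cancel_right] at h7

omit D E in
theorem smul_mem_em' {J : Subgroup H} {g : H} (hg : g ∈ J) {m : M} (hm : m ∈ em M J) : g • m ∈ em M J :=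
  smul_em hg hm

/-- **(4.0)** -/
theorem d_base (hinv : ∀ (p x : X) (m : L), inc p m → inc x m → x ≠ p → ∀ g ∈ centralizer (R p : Set G), g * g = 1 → g • x = x →
      ∀ u ∈ R x, g * u = u * g)
    (hp : ExP inc R W V n p q) (hn : 2 ≤ n) (hy : Walk inc (n - 1) q y) (hyl : inc y l)
    {Pi : Set (Subgroup H)} (hF : Flag T lam U Kh) (hP : PSq K T lam Pi) (hns : ¬ Single Pi lam) :
    ∃ x m, inc x m ∧ inc p m ∧ (∃ f ∈ W q, f • x ≠ x) ∧
      W q ≤ closure {f | f ∈ W q ∧ (f • x = x ∨ ∀ a ∈ W x, a ∈ W (f • x) → a ∈ W p)} := by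
  have Re := F.re
  have hX := hp.ex y l hy hyl F.pl
  have hA := RF.A_le D hX
  have hEx := F.exact D hX
  have hyp : y ≠ p := hp.crit.symm.ne_last (by omega) hy
  obtain ⟨J, hJ, hAJ⟩ := PSq.exists_block hP hEx
  have hJl := hP.hit _ hEx J hJ hAJ
  obtain ⟨g, hg, hmov, hgen⟩ := hP.good _ hEx J hJ hAJ
  have hκ1 : κ 1 = 1 := by
    have h1 := E.kmul 1 (one_mem _) 1 (one_mem _)
    rwa [mul_one, left_eq_mul] at h1
  refine d_of D F E hinv hp hn hy hyl hA (g := g) ?_ ?_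
  · obtain ⟨a, ha, ha1⟩ := hF.exists_ne
    obtain ⟨α, hα, hα'⟩ := hmov a ha ha1
    refine ⟨a, ha, α, hα.1, fun h0 => hα' ?_⟩
    rw [h0, mul_inv_cancel]
    exact one_mem _
  · refine (hP.prod _ hEx).trans ((closure_le _).2 ?_)
    rintro x ⟨J', hJ', hx⟩
    by_cases hJJ : J' = J
    · subst hJJ
      refine (hgen.trans ((closure_le _).2 ?_)) hx
      rintro α ⟨hα, hα'⟩
      refine subset_closure ⟨hα.1, ?_⟩
      rcases hα' with h1 | ⟨h1, h2⟩
      · left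
        intro a ha
        have h3 : ((g⁻¹ * α * g) • a) * a⁻¹ ∈ zm M J' := by
          have h4 := h1 a ha
          have e : ((g⁻¹ * α * g) • a) * a⁻¹ = g⁻¹ • ((α • g • a) * (g • a)⁻¹) := by
            rw [smul_mul', smul_inv', inv_smul_smul, mul_smul, mul_smul]
          rw [e, h4 g⁻¹ (inv_mem hg)]
          exact h4
        have h4 := PSq.st hF hP hJ ha (mul_mem (mul_mem (inv_mem hg) hα.2) hg) h3
        rw [mul_smul, mul_smul, inv_smul_eq_iff] at h4
        exact h4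
      · right
        obtain ⟨a, ha, ha1⟩ := hF.exists_ne
        refine ⟨a, ha, ha1, ?_⟩
        have hoj : oj lam (im F.re (W q) hA) J' ≤
            closure {x | ∃ c ∈ fixer lam, ∃ y ∈ im F.re (W q) hA, x = c * y * c⁻¹} := by
          refine Subgroup.closure_mono ?_
          rintro x ⟨c, hc, z, hz, rfl⟩
          exact ⟨c, hc.2, z, hz.1, rfl⟩
        rcases PSq.dich hF hP hJ hJl hns with ⟨J₂, hJ₂, hne, hJ₂l⟩ | ⟨huniq, htm⟩
        · obtain ⟨φ, hφ, h, hh, k1, k2, k3⟩ := PSq.sepA hF hP hJ hJl hJ₂ hne hJ₂l hg hα.2 h1 ha ha1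
          obtain ⟨k, hk, hk1⟩ := E.kh φ hφ
          have hcomm : ∀ u ∈ W p, φ (π u) = 1 → k * u = u * k := fun u hu h0 => by
            obtain ⟨m1, m2⟩ := hk1 u hu
            rw [h0] at m2
            exact comm_eq_one.1 (E.kker _ m1 m2.symm)
          refine ⟨h, hoj hh, k, hk, fun u hu h0 => hcomm u hu (by rw [h0]; exact k1),
            fun u hu h0 => hcomm u hu (by rw [h0]; exact k2), fun u hu h0 => ⟨(hk1 u hu).1, fun h4 => k3 ?_⟩⟩
          rw [← h0, (hk1 u hu).2, comm_eq_one.2 h4, hκ1]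
        · obtain ⟨hAJ', hlE, hTJ⟩ := PSq.uniq_case hF hP hEx hJ hJl huniq
          have hq : ∀ f ∈ W q, ρ f ∈ J' := fun f hf => hAJ' ⟨f, hf, rfl⟩
          have hgB := h2 hAJ' hlE htm hTJ (phi D Re E.kmul (em M J'))
            (fun φ hφ x hx y hy => phi_mul D Re E.kmul hφ hx hy)
            (fun φ hφ j hj => phi_inv D Re E.kmul (fun j hj e he => smul_em hj he) hφ hj)
            (fun a ha ha1 => by
              obtain ⟨φ, hφ, h0⟩ := hF.f1 a ha ha1
              exact ⟨_, kh_mem D Re E.kmul E hφ, h0⟩)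
            (fun φ hφ j hj a ha ha1 h0 b hb => phi_ti D Re E.kmul F E hyl hyp hφ ha ha1
              (smul_em hj (hlE ha)) h0 hb (smul_em hj (hlE hb)))
            (by
              by_cases hTj : ∀ t ∈ T, ∃ j ∈ J', ∀ e ∈ em M J', t • e = j • e
              · left
                obtain ⟨e₀, he₀, he₁⟩ : ∃ e ∈ tm M J', e ≠ 1 := by
                  by_contra hcon
                  push Not at hcon
                  exact htm ((eq_bot_iff_forall _).2 hcon)
                obtain ⟨u₀, hu₀, rfl⟩ := Re.psurj e₀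
                obtain ⟨g₁, hg₁, m1, m2⟩ := Re.exists_mov D (q := q) (J := J') (T := S) (E := (em M J' : Set M))
                  (fun f hf => hA hf)
                  (fun u hu h0 => hp.cen u hu fun b hb => (comm_mem_iff Re D (hA hb) hu).2 (h0 b hb)) hq
                  (by
                    refine (hP.gens _ hEx J' hJ hAJ).trans (Subgroup.closure_mono ?_)
                    rintro x ⟨c, hc, _, ⟨⟨f, hf, rfl⟩, -⟩, rfl⟩
                    exact ⟨f, hf, c, hc, rfl⟩)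
                  E.cS E.fS
                  (fun g hg => by
                    obtain ⟨j, hj, hje⟩ := hTj _ (E.ST g hg)
                    refine ⟨j, hj, fun e he => ?_⟩
                    rw [mul_smul, hje _ (smul_em (inv_mem hj) he), smul_inv_smul])
                  hu₀ (fun h0 => he₁ ((Re.pker u₀ hu₀).2 h0)) (fun i hi => he₀.2 i hi)
                obtain ⟨φ, hφ, h0⟩ := exists_phi D Re E.kmul hg₁ m1 hu₀ he₀.1 E.kker m2
                exact ⟨φ, hφ, _, he₀, h0⟩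
              · exact Or.inr hTj) a ha ha1
          obtain ⟨φ, ⟨g', hg', m1, m2⟩, h, hh, k1, k2, k3⟩ := hgB
          have e1 : g • a ∈ em M J' := smul_em hg (hlE ha)
          have e2 : (α • g • a) * (g • a)⁻¹ ∈ em M J' := comm_mem_em hα.2 _
          have hhJ : g * h * g⁻¹ ∈ J' := by
            have h5 : oj lam (im F.re (W q) hA) J' ≤ J' := by
              refine (closure_le _).2 ?_
              rintro x ⟨c, hc, y, hy, rfl⟩
              exact mul_mem (mul_mem hc.1 hy.2) (inv_mem hc.1)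
            exact mul_mem (mul_mem hg (h5 hh)) (inv_mem hg)
          have e3 := comm_mem_em hhJ ((α • g • a) * (g • a)⁻¹)
          have hcomm : ∀ u ∈ W p, π u ∈ em M J' → φ (π u) = 1 → g' * u = u * g' := fun u hu hue h0 => by
            have h5 := m2 u hu hue
            rw [h0] at h5
            exact comm_eq_one.1 (E.kker _ (mem_R D Re hg' hu (m1 _ hue)) h5.symm)
          refine ⟨h, hoj hh, g', hg', fun u hu h0 => hcomm u hu (by rw [h0]; exact e1) (by rw [h0]; exact k1),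
            fun u hu h0 => hcomm u hu (by rw [h0]; exact e2) (by rw [h0]; exact k2), fun u hu h0 => ?_⟩
          have e4 : π u ∈ em M J' := by rw [h0]; exact e3
          refine ⟨mem_R D Re hg' hu (m1 _ e4), fun h4 => k3 ?_⟩
          rw [← h0, m2 u hu e4, comm_eq_one.2 h4, hκ1]
    · refine subset_closure ⟨hx.1, Or.inl fun a ha => ?_⟩
      have h1 : x * g = g * x := hP.comm J' hJ' J hJ hJJ x hx.2 g hg
      have h2 : x • a = a := o2_le _ (hEx.le hx.1) a ha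
      rw [smul_smul, h1, mul_smul, h2]

end base

/-! ### All flags -/

section all

variable {p : X} {l : L} {ρ : G → H} {π : G → M} {T : Subgroup H} {lam U : Subgroup M}
  {Kh : Subgroup (M →* K)} {S : Subgroup G} {κ : G → K} {Pi : Set (Subgroup H)}
variable [Finite G] (D : Geom inc R W V s t) (F : RF inc R W V p l ρ π lam U)
  (E : Ext inc R W V p l ρ π T Kh S κ) (hflag : ∀ p' l', inc p' l' → ∃ g : G, p' = g • p ∧ l' = g • l)
  (hinv : ∀ (p x : X) (m : L), inc p m → inc x m → x ≠ p → ∀ g ∈ centralizer (R p : Set G), g * g = 1 → g • x = x →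
      ∀ u ∈ R x, g * u = u * g)
  (hF : Flag T lam U Kh) (hP : PSq K T lam Pi)
include D F hflag hF hP

/-- **(4.0), (6.1)** : `NS` for all flags. -/
theorem ns (E : Ext inc R W V p l ρ π T Kh S κ)
    (hinv : ∀ (p x : X) (m : L), inc p m → inc x m → x ≠ p → ∀ g ∈ centralizer (R p : Set G), g * g = 1 → g • x = x →
      ∀ u ∈ R x, g * u = u * g) (hn : 2 ≤ n)
    (hns : ¬ Single Pi lam) : NS inc R W V n where
  k1 p' l' A h y hy hne := by
    obtain ⟨g, rfl, rfl⟩ := hflag p' l' h.ql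
    exact RF.k1 D (F.smul D g) hF hP hns h hy hne
  k2 p' l' A h y hy hne := by
    obtain ⟨g, rfl, rfl⟩ := hflag p' l' h.ql
    exact RF.k2 D (F.smul D g) hF hP hns h hy hne
  d p' q' h := by
    obtain ⟨y, l', hy, hyl, hpl⟩ := h.crit.symm.last (by omega)
    obtain ⟨g, rfl, rfl⟩ := hflag p' l' hpl
    exact d_base D (F.smul D g) (E.smul D g) hinv h hn hy hyl hF hP hns

/-- **(6.2)** : `SP` for all flags. -/
theorem sp (hs : Single Pi lam) : SP inc R W V := by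
  intro p' l' A h a ha u hu
  obtain ⟨g, rfl, rfl⟩ := hflag p' l' h.ql
  exact RF.sp D (F.smul D g) hF hP hs h ha hu

end all

end Cfsg.Agent.Omega.NO3S.FarQ.Plug

end

section


/-!
# FarQ: `NS` for all flags, with a weaker hypothesis on involutions (copy of the end of `FarQ/Plug.lean`)

An involution which centralises the point `x` and fixes another point `y` on a line through `x`, centralises `y`
(`Inv`): this holds over the `(R, B)`-frame.
-/

set_option autoImplicit false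
set_option linter.unusedSectionVars false

namespace Cfsg.Agent.Omega.NO3S.FarB.Plug

open Subgroup Cfsg Cfsg.Agent.ZN Cfsg.Agent.MinSimple.VModule Cfsg.Agent.Omega.NOThree.Pts
open Cfsg.Agent.Omega.NO3S.FarQ Cfsg.Agent.Omega.NO3S.FarQ.Asm Cfsg.Agent.Omega.NO3S.FarQ.Glue
open Cfsg.Agent.Omega.NO3S.FarQ.Plug
open Cfsg.Agent.Omega.NO3S.PT (cj mem_cj conj_mem_cj)

variable {G X L : Type*} [Group G] [MulAction G X] [MulAction G L]
variable {inc : X → L → Prop} {R W : X → Subgroup G} {V : L → Subgroup G} {s t n : ℕ}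
variable {H M K : Type*} [Group H] [CommGroup M] [MulDistribMulAction H M] [CommGroup K]

/-- involutions centralising a point and fixing another one on the same line -/
def Inv (inc : X → L → Prop) (R : X → Subgroup G) : Prop :=
  ∀ (x y : X) (m : L), inc x m → inc y m → x ≠ y → ∀ g : G, g * g = 1 → g ∈ centralizer (R x : Set G) → g • y = y →
    ∀ u ∈ R y, g * u = u * g

section base

variable {p q y : X} {l : L} {ρ : G → H} {π : G → M} {T : Subgroup H} {lam U : Subgroup M}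
  {Kh : Subgroup (M →* K)} {S : Subgroup G} {κ : G → K}
variable [Finite G] (D : Geom inc R W V s t) (F : RF inc R W V p l ρ π lam U)
  (E : Ext inc R W V p l ρ π T Kh S κ)
include D F E

/-- **(4.0), the `G`-side**, from its abstract half. -/
theorem d_of (hinv : Inv inc R)
    (hp : ExP inc R W V n p q) (hn : 2 ≤ n) (hy : Walk inc (n - 1) q y) (hyl : inc y l)
    (hA : W q ≤ centralizer (R p : Set G)) {g : H}
    (h1 : ∃ a ∈ lam, ∃ α ∈ im F.re (W q) hA, α • g • a ≠ g • a)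
    (h2 : im F.re (W q) hA ≤ closure {α | α ∈ im F.re (W q) hA ∧
      ((∀ a ∈ lam, α • g • a = g • a) ∨ Sep R W p ρ π (im F.re (W q) hA) lam g α)}) :
    ∃ x m, inc x m ∧ inc p m ∧ (∃ f ∈ W q, f • x ≠ x) ∧
      W q ≤ closure {f | f ∈ W q ∧ (f • x = x ∨ ∀ a ∈ W x, a ∈ W (f • x) → a ∈ W p)} := by
  have Re := F.re
  have hyp : y ≠ p := hp.crit.symm.ne_last (by omega) hy
  have hc : Com W q y := hp.crit.symm.com_last (by omega) hy
  have F4 := flag D F E hyl hyp hc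
  obtain ⟨c, hcR, rfl⟩ := Re.surj g
  have i1 : inc (c • y) (c • l) := D.inc_smul c _ _ hyl
  have i2 : inc p (c • l) := by
    have := D.inc_smul c _ _ F.pl
    rwa [Four.fix_p D hcR] at this
  -- lifts
  have lift : ∀ a ∈ lam, ∃ u ∈ R (c • y), π u = ρ c • a := by
    intro a ha
    obtain ⟨r, hr, hra⟩ := Re.exists_lift D F4 (a := a) ((F.mlam a).1 ha)
    refine ⟨c * r * c⁻¹, D.R_smul c y r hr, ?_⟩
    rw [Re.act c hcR r (Four.R_le_Wp D hyl F.pl hr), hra]
  refine ⟨c • y, c • l, i1, i2, ?_, ?_⟩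
  · obtain ⟨a, ha, _, ⟨f, hf, rfl⟩, hne⟩ := h1
    refine ⟨f, hf, fun h0 => hne ?_⟩
    obtain ⟨u, hu, hua⟩ := lift a ha
    have hpne : p ≠ c • y := fun e => hyp (by
      have h9 := Four.fix_p D hcR
      rw [← h9] at e
      exact (smul_left_cancel c e).symm)
    have h3 := hinv p _ _ i2 i1 hpne f (D.sq q f hf) (hA hf) h0 u hu
    rw [← hua, ← Re.act f (hA hf) u (Four.R_le_Wp D i1 i2 hu), h3, mul_inv_cancel_right]
  · set B := closure {f | f ∈ W q ∧ (f • c • y = c • y ∨ ∀ a ∈ W (c • y), a ∈ W (f • c • y) → a ∈ W p)} with hB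
    have hBW : B ≤ W q := (closure_le _).2 fun f hf => hf.1
    have key : im F.re (W q) hA ≤ im F.re B (hBW.trans hA) := by
      refine h2.trans ((closure_le _).2 ?_)
      rintro _ ⟨⟨f, hf, rfl⟩, h3⟩
      refine ⟨f, subset_closure ⟨hf, ?_⟩, rfl⟩
      rcases h3 with h3 | ⟨a, ha, ha1, h, hh, g', hg', k1, k2, k3⟩
      · by_cases h4 : f • c • y = c • y
        · exact Or.inl h4
        · right
          obtain ⟨r, hr, hr1⟩ := D.exists_ne y
          have hu := D.R_smul c y r hr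
          have huW := Four.R_le_Wp D i1 i2 hu
          have hm : f * (c * r * c⁻¹) * f⁻¹ * (c * r * c⁻¹)⁻¹ ∈ R p := by
            rw [comm_mem_iff Re D (hA hf) huW, Re.act c hcR r (Four.R_le_Wp D hyl F.pl hr)]
            exact h3 _ ((F.mlam _).2 ⟨r, D.R_le y l hyl hr, rfl⟩)
          have h5 : f * (c * r * c⁻¹) * f⁻¹ ∈ V (c • l) := by
            have h6 := mul_mem (D.R_le p _ i2 hm) (D.R_le _ _ i1 hu)
            rwa [inv_mul_cancel_right] at h6
          obtain ⟨z, hz, hfz⟩ := D.cover _ _ h5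
          have h6 : f • c • y = z := D.ti _ _ _ (D.R_smul f _ _ hu) hfz fun h0 =>
            hr1 (conj_eq_one_iff.1 (conj_eq_one_iff.1 h0))
          intro b hb hb'
          exact D.inf_le i1 (h6 ▸ hz) i2 (Ne.symm h4) ⟨hb, hb'⟩
      · right
        have h4 := Re.low D F4 (a := a) ((F.mlam a).1 ha) ha1 hcR hf (h := ρ c * h * (ρ c)⁻¹) (by
          have e : (ρ c)⁻¹ * (ρ c * h * (ρ c)⁻¹) * ρ c = h := by group
          rw [e]
          refine Subgroup.closure_mono ?_ hh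
          rintro _ ⟨d, hd, _, ⟨f', hf', rfl⟩, rfl⟩
          exact ⟨f', hf', d, fun a ha => hd a ((F.mlam a).2 ha), rfl⟩) rfl rfl hg' k1 k2 k3
        intro b hb hb'
        exact h4.2.2.2 ⟨hb, hb'⟩
    intro f hf
    obtain ⟨b, hb, hbf⟩ := key ⟨f, hf, rfl⟩
    have hbq := hBW hb
    have h3 : ρ (f * b⁻¹) = 1 := by
      rw [Re.mul f (hA hf) _ (inv_mem (hA hbq)), Re.inv (hA hbq), hbf, mul_inv_cancel]
    have h4 := hp.good (f * b⁻¹) (mul_mem hf (inv_mem hbq))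
      ((Re.ker _ (mul_mem (hA hf) (inv_mem (hA hbq)))).1 h3)
    have h5 : (f * b⁻¹) • c • y = c • y :=
      D.fix_of_centralizes fun r hr => h4 r (Four.R_le_Wp D i1 i2 hr)
    have h6 : f * b⁻¹ ∈ B := subset_closure ⟨mul_mem hf (inv_mem hbq), Or.inl h5⟩
    have h7 := mul_mem h6 hb
    rwa [inv_mul_cancel_right] at h7

/-- **(4.0)** -/
theorem d_base (hinv : Inv inc R)
    (hp : ExP inc R W V n p q) (hn : 2 ≤ n) (hy : Walk inc (n - 1) q y) (hyl : inc y l)
    {Pi : Set (Subgroup H)} (hF : Flag T lam U Kh) (hP : PSq K T lam Pi) (hns : ¬ Single Pi lam) :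
    ∃ x m, inc x m ∧ inc p m ∧ (∃ f ∈ W q, f • x ≠ x) ∧
      W q ≤ closure {f | f ∈ W q ∧ (f • x = x ∨ ∀ a ∈ W x, a ∈ W (f • x) → a ∈ W p)} := by
  have Re := F.re
  have hX := hp.ex y l hy hyl F.pl
  have hA := RF.A_le D hX
  have hEx := F.exact D hX
  have hyp : y ≠ p := hp.crit.symm.ne_last (by omega) hy
  obtain ⟨J, hJ, hAJ⟩ := PSq.exists_block hP hEx
  have hJl := hP.hit _ hEx J hJ hAJ
  obtain ⟨g, hg, hmov, hgen⟩ := hP.good _ hEx J hJ hAJ
  have hκ1 : κ 1 = 1 := by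
    have h1 := E.kmul 1 (one_mem _) 1 (one_mem _)
    rwa [mul_one, left_eq_mul] at h1
  refine d_of D F E hinv hp hn hy hyl hA (g := g) ?_ ?_
  · obtain ⟨a, ha, ha1⟩ := hF.exists_ne
    obtain ⟨α, hα, hα'⟩ := hmov a ha ha1
    refine ⟨a, ha, α, hα.1, fun h0 => hα' ?_⟩
    rw [h0, mul_inv_cancel]
    exact one_mem _
  · refine (hP.prod _ hEx).trans ((closure_le _).2 ?_)
    rintro x ⟨J', hJ', hx⟩
    by_cases hJJ : J' = J
    · subst hJJ
      refine (hgen.trans ((closure_le _).2 ?_)) hx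
      rintro α ⟨hα, hα'⟩
      refine subset_closure ⟨hα.1, ?_⟩
      rcases hα' with h1 | ⟨h1, h2⟩
      · left
        intro a ha
        have h3 : ((g⁻¹ * α * g) • a) * a⁻¹ ∈ zm M J' := by
          have h4 := h1 a ha
          have e : ((g⁻¹ * α * g) • a) * a⁻¹ = g⁻¹ • ((α • g • a) * (g • a)⁻¹) := by
            rw [smul_mul', smul_inv', inv_smul_smul, mul_smul, mul_smul]
          rw [e, h4 g⁻¹ (inv_mem hg)]
          exact h4
        have h4 := PSq.st hF hP hJ ha (mul_mem (mul_mem (inv_mem hg) hα.2) hg) h3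
        rw [mul_smul, mul_smul, inv_smul_eq_iff] at h4
        exact h4
      · right
        obtain ⟨a, ha, ha1⟩ := hF.exists_ne
        refine ⟨a, ha, ha1, ?_⟩
        have hoj : oj lam (im F.re (W q) hA) J' ≤
            closure {x | ∃ c ∈ fixer lam, ∃ y ∈ im F.re (W q) hA, x = c * y * c⁻¹} := by
          refine Subgroup.closure_mono ?_
          rintro x ⟨c, hc, z, hz, rfl⟩
          exact ⟨c, hc.2, z, hz.1, rfl⟩
        rcases PSq.dich hF hP hJ hJl hns with ⟨J₂, hJ₂, hne, hJ₂l⟩ | ⟨huniq, htm⟩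
        · obtain ⟨φ, hφ, h, hh, k1, k2, k3⟩ := PSq.sepA hF hP hJ hJl hJ₂ hne hJ₂l hg hα.2 h1 ha ha1
          obtain ⟨k, hk, hk1⟩ := E.kh φ hφ
          have hcomm : ∀ u ∈ W p, φ (π u) = 1 → k * u = u * k := fun u hu h0 => by
            obtain ⟨m1, m2⟩ := hk1 u hu
            rw [h0] at m2
            exact comm_eq_one.1 (E.kker _ m1 m2.symm)
          refine ⟨h, hoj hh, k, hk, fun u hu h0 => hcomm u hu (by rw [h0]; exact k1),
            fun u hu h0 => hcomm u hu (by rw [h0]; exact k2), fun u hu h0 => ⟨(hk1 u hu).1, fun h4 => k3 ?_⟩⟩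
          rw [← h0, (hk1 u hu).2, comm_eq_one.2 h4, hκ1]
        · obtain ⟨hAJ', hlE, hTJ⟩ := PSq.uniq_case hF hP hEx hJ hJl huniq
          have hq : ∀ f ∈ W q, ρ f ∈ J' := fun f hf => hAJ' ⟨f, hf, rfl⟩
          have hgB := h2 hAJ' hlE htm hTJ (phi D Re E.kmul (em M J'))
            (fun φ hφ x hx y hy => phi_mul D Re E.kmul hφ hx hy)
            (fun φ hφ j hj => phi_inv D Re E.kmul (fun j hj e he => smul_em hj he) hφ hj)
            (fun a ha ha1 => by
              obtain ⟨φ, hφ, h0⟩ := hF.f1 a ha ha1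
              exact ⟨_, kh_mem D Re E.kmul E hφ, h0⟩)
            (fun φ hφ j hj a ha ha1 h0 b hb => phi_ti D Re E.kmul F E hyl hyp hφ ha ha1
              (smul_em hj (hlE ha)) h0 hb (smul_em hj (hlE hb)))
            (by
              by_cases hTj : ∀ t ∈ T, ∃ j ∈ J', ∀ e ∈ em M J', t • e = j • e
              · left
                obtain ⟨e₀, he₀, he₁⟩ : ∃ e ∈ tm M J', e ≠ 1 := by
                  by_contra hcon
                  push Not at hcon
                  exact htm ((eq_bot_iff_forall _).2 hcon)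
                obtain ⟨u₀, hu₀, rfl⟩ := Re.psurj e₀
                obtain ⟨g₁, hg₁, m1, m2⟩ := Re.exists_mov D (q := q) (J := J') (T := S) (E := (em M J' : Set M))
                  (fun f hf => hA hf)
                  (fun u hu h0 => hp.cen u hu fun b hb => (comm_mem_iff Re D (hA hb) hu).2 (h0 b hb)) hq
                  (by
                    refine (hP.gens _ hEx J' hJ hAJ).trans (Subgroup.closure_mono ?_)
                    rintro x ⟨c, hc, _, ⟨⟨f, hf, rfl⟩, -⟩, rfl⟩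
                    exact ⟨f, hf, c, hc, rfl⟩)
                  E.cS E.fS
                  (fun g hg => by
                    obtain ⟨j, hj, hje⟩ := hTj _ (E.ST g hg)
                    refine ⟨j, hj, fun e he => ?_⟩
                    rw [mul_smul, hje _ (smul_em (inv_mem hj) he), smul_inv_smul])
                  hu₀ (fun h0 => he₁ ((Re.pker u₀ hu₀).2 h0)) (fun i hi => he₀.2 i hi)
                obtain ⟨φ, hφ, h0⟩ := exists_phi D Re E.kmul hg₁ m1 hu₀ he₀.1 E.kker m2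
                exact ⟨φ, hφ, _, he₀, h0⟩
              · exact Or.inr hTj) a ha ha1
          obtain ⟨φ, ⟨g', hg', m1, m2⟩, h, hh, k1, k2, k3⟩ := hgB
          have e1 : g • a ∈ em M J' := smul_em hg (hlE ha)
          have e2 : (α • g • a) * (g • a)⁻¹ ∈ em M J' := comm_mem_em hα.2 _
          have hhJ : g * h * g⁻¹ ∈ J' := by
            have h5 : oj lam (im F.re (W q) hA) J' ≤ J' := by
              refine (closure_le _).2 ?_
              rintro x ⟨c, hc, y, hy, rfl⟩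
              exact mul_mem (mul_mem hc.1 hy.2) (inv_mem hc.1)
            exact mul_mem (mul_mem hg (h5 hh)) (inv_mem hg)
          have e3 := comm_mem_em hhJ ((α • g • a) * (g • a)⁻¹)
          have hcomm : ∀ u ∈ W p, π u ∈ em M J' → φ (π u) = 1 → g' * u = u * g' := fun u hu hue h0 => by
            have h5 := m2 u hu hue
            rw [h0] at h5
            exact comm_eq_one.1 (E.kker _ (mem_R D Re hg' hu (m1 _ hue)) h5.symm)
          refine ⟨h, hoj hh, g', hg', fun u hu h0 => hcomm u hu (by rw [h0]; exact e1) (by rw [h0]; exact k1),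
            fun u hu h0 => hcomm u hu (by rw [h0]; exact e2) (by rw [h0]; exact k2), fun u hu h0 => ?_⟩
          have e4 : π u ∈ em M J' := by rw [h0]; exact e3
          refine ⟨mem_R D Re hg' hu (m1 _ e4), fun h4 => k3 ?_⟩
          rw [← h0, m2 u hu e4, comm_eq_one.2 h4, hκ1]
    · refine subset_closure ⟨hx.1, Or.inl fun a ha => ?_⟩
      have h1 : x * g = g * x := hP.comm J' hJ' J hJ hJJ x hx.2 g hg
      have h2 : x • a = a := o2_le _ (hEx.le hx.1) a ha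
      rw [smul_smul, h1, mul_smul, h2]

end base

/-! ### All flags -/

section all

variable {p : X} {l : L} {ρ : G → H} {π : G → M} {T : Subgroup H} {lam U : Subgroup M}
  {Kh : Subgroup (M →* K)} {S : Subgroup G} {κ : G → K} {Pi : Set (Subgroup H)}
variable [Finite G] (D : Geom inc R W V s t) (F : RF inc R W V p l ρ π lam U)
  (E : Ext inc R W V p l ρ π T Kh S κ) (hflag : ∀ p' l', inc p' l' → ∃ g : G, p' = g • p ∧ l' = g • l)
  (hinv : Inv inc R)
  (hF : Flag T lam U Kh) (hP : PSq K T lam Pi)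
include D F hflag hF hP

/-- **(4.0), (6.1)** : `NS` for all flags. -/
theorem ns (E : Ext inc R W V p l ρ π T Kh S κ)
    (hinv : Inv inc R) (hn : 2 ≤ n)
    (hns : ¬ Single Pi lam) : NS inc R W V n where
  k1 p' l' A h y hy hne := by
    obtain ⟨g, rfl, rfl⟩ := hflag p' l' h.ql
    exact RF.k1 D (F.smul D g) hF hP hns h hy hne
  k2 p' l' A h y hy hne := by
    obtain ⟨g, rfl, rfl⟩ := hflag p' l' h.ql
    exact RF.k2 D (F.smul D g) hF hP hns h hy hne
  d p' q' h := by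
    obtain ⟨y, l', hy, hyl, hpl⟩ := h.crit.symm.last (by omega)
    obtain ⟨g, rfl, rfl⟩ := hflag p' l' hpl
    exact d_base D (F.smul D g) (E.smul D g) hinv h hn hy hyl hF hP hns

end all

end Cfsg.Agent.Omega.NO3S.FarB.Plug

end
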