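import Cfsg.Agent.Mrg.Omega.NO3S.FarQ.FOne

section


/-!
# NO-3S, natural lines, `q ≥ 4`: `n ≥ 3` is impossible, and `n = 2` is `Single` (TEXT 263-Q, helper263 #15995)

* `RD.ext` : helper712's `Ext` from `RD`;
* `noOver` : `NoOv lam` gives `LemmaM.NoOver` for all flags;
* `far_false` : no critical pair at distance `n ≥ 3`; `mid_single` : for `n = 2` the blocks are `Single`.
-/

set_option autoImplicit false
set_option linter.unusedSectionVars false

namespace Cfsg.Agent.Omega.NO3S.FarQ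

open Subgroup Cfsg Cfsg.Agent.ZN Cfsg.Agent.MinSimple.VModule Cfsg.Agent.Omega.NOThree.Pts
open Cfsg.Agent.Omega.NO3S.FarQ.Glue Cfsg.Agent.Omega.NO3S.PT Cfsg.Agent.Omega.NO3S.PtGeom
open Cfsg.Agent.Omega.NOThree.LemmaM (NoOver)
open scoped Pointwise

universe u

section geo

variable {G X L : Type*} [Group G] [MulAction G X] [MulAction G L]
variable {inc : X → L → Prop} {R W : X → Subgroup G} {V : L → Subgroup G} {s t n : ℕ}
variable {H M K : Type*} [Group H] [CommGroup M] [MulDistribMulAction H M] [CommGroup K]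

/-- helper712's `Ext` -/
theorem RD.ext {p : X} {l : L} {Sy : Subgroup G} {ρ : G → H} {π : G → M} {ζ : K →* G} {T : Subgroup H}
    {lam U : Subgroup M} {Kh : Subgroup (M →* K)} (F : RD inc R W V p l Sy ρ π ζ T lam U Kh) :
    ∃ κ : G → K, Plug.Ext inc R W V p l ρ π T Kh Sy κ := by
  classical
  have h1 : ∀ a : G, ∃ r : K, a ∈ R p → ζ r = a := by
    intro a
    by_cases ha : a ∈ R p
    · obtain ⟨r, hr⟩ := (F.ran a).1 ha
      exact ⟨r, fun _ => hr⟩
    · exact ⟨1, fun h => absurd h ha⟩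
  choose κ hκ using h1
  refine ⟨κ, F.line, fun y z hy hyp hz hzp => F.tr z y hz hzp hy hyp, F.sy, fun g hg => (F.mT _).2 ⟨g, hg, rfl⟩,
    F.cen, ?_, ?_, ?_⟩
  · intro a ha b hb
    apply F.inj
    rw [map_mul, hκ a ha, hκ b hb, hκ _ (mul_mem ha hb)]
  · intro a ha h
    rw [← hκ a ha, h, map_one]
  · intro φ hφ
    obtain ⟨k, hk, hk'⟩ := F.kh φ hφ
    refine ⟨k, hk, fun w hw => ?_⟩
    have h2 : k * w * k⁻¹ * w⁻¹ ∈ R p := (F.ran _).2 ⟨_, (hk' w hw).symm⟩
    refine ⟨h2, ?_⟩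
    apply F.inj
    rw [hκ _ h2, hk' w hw]

section card

variable {p : X} {ρ : G → H} {π : G → M} (Re : Four.Real R W p ρ π)

theorem card_im {A N : Subgroup G} (hA : A ≤ centralizer (R p : Set G))
    (hN : ∀ a, a ∈ N ↔ a ∈ A ∧ ∀ u ∈ W p, a * u * a⁻¹ * u⁻¹ ∈ R p) :
    Nat.card (im Re A hA) = N.relIndex A := by
  let φ : A →* H := MonoidHom.mk' (fun a => ρ a) (fun a b => Re.mul a (hA a.2) b (hA b.2))
  have hrange : φ.range = im Re A hA := by
    ext h
    constructor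
    · rintro ⟨a, rfl⟩
      exact ⟨a, a.2, rfl⟩
    · rintro ⟨a, ha, rfl⟩
      exact ⟨⟨a, ha⟩, rfl⟩
  have hker : φ.ker = N.subgroupOf A := by
    ext a
    rw [mem_subgroupOf, hN, MonoidHom.mem_ker]
    exact (Re.ker a (hA a.2)).trans ⟨fun h => ⟨a.2, h⟩, fun h => h.2⟩
  rw [← hrange, ← index_ker, hker]
  rfl

theorem index_zm (D : Geom inc R W V s t) {A C : Subgroup G} (hA : A ≤ centralizer (R p : Set G))
    (hC : ∀ u, u ∈ C ↔ u ∈ W p ∧ ∀ a ∈ A, a * u * a⁻¹ * u⁻¹ ∈ R p) :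
    (zm M (im Re A hA)).index = C.relIndex (W p) := by
  let ψ : W p →* M := MonoidHom.mk' (fun a => π a) (fun a b => Re.pmul a a.2 b b.2)
  have hψ : Function.Surjective ψ := fun m => by
    obtain ⟨u, hu, rfl⟩ := Re.psurj m
    exact ⟨⟨u, hu⟩, rfl⟩
  have h1 : (zm M (im Re A hA)).comap ψ = C.subgroupOf (W p) := by
    ext u
    rw [mem_subgroupOf, hC]
    constructor
    · intro h
      refine ⟨u.2, fun a ha => ?_⟩
      rw [comm_mem_iff Re D (hA ha) u.2]
      have h2 : π u ∈ zm M (im Re A hA) := h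
      exact h2 _ (show ρ a ∈ im Re A hA from ⟨a, ha, rfl⟩)
    · rintro ⟨-, h⟩
      show π u ∈ zm M (im Re A hA)
      rintro _ ⟨a, ha, rfl⟩
      exact (comm_mem_iff Re D (hA ha) u.2).1 (h a ha)
  rw [← index_comap_of_surjective _ hψ, h1]
  rfl

end card

/-- **(NO) for all flags.** -/
theorem noOver [Finite G] (D : Geom inc R W V s t) {p : X} {l : L} {ρ : G → H} {π : G → M} {lam U : Subgroup M}
    (F : RF inc R W V p l ρ π lam U) (hflag : ∀ p' l', inc p' l' → ∃ g : G, p' = g • p ∧ l' = g • l)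
    (hNO : NoOv (H := H) lam) : NoOver inc R W V := by
  intro q l' hql A hA hcomm hsq _ hquad N C hN hC
  obtain ⟨g, rfl, rfl⟩ := hflag q l' hql
  have F' := F.smul D g
  have hAR : A ≤ centralizer (R (g • p) : Set G) := hA.trans ((o2_le _).trans (centralizer_le (D.R_le _ _ hql)))
  rw [← card_im F'.re hAR hN, ← index_zm F'.re D hAR hC]
  refine hNO _ (RF.im_le D F' hA hAR) ?_ ?_ ?_
  · rintro _ ⟨a, ha, rfl⟩ _ ⟨b, hb, rfl⟩
    have h1 := F'.re.mul a (hAR ha) b (hAR hb)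
    have h2 := F'.re.mul b (hAR hb) a (hAR ha)
    rw [← h1, ← h2, hcomm a ha b hb]
  · rintro _ ⟨a, ha, rfl⟩
    have h1 := F'.re.mul a (hAR ha) a (hAR ha)
    have h2 := F'.re.one
    rw [← h1, hsq a ha, h2]
  · rintro _ ⟨a, ha, rfl⟩ _ ⟨b, hb, rfl⟩ m
    obtain ⟨u, hu, rfl⟩ := F'.re.psurj m
    have h1 := π_comm F'.re D (hAR ha) hu
    have h2 := F'.re.act b (hAR hb) _ (mul_mem (Four.norm_p D (hAR ha) hu) (inv_mem hu))
    rw [← h1, ← h2]
    congr 1
    rw [hquad a ha b hb u hu, mul_inv_cancel_right]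

end geo

section

variable {G : Type u} [Group G] [Finite G] {S : Sylow 2 G} {P V Z : Subgroup G} (h : PL S P V Z)
include h

/-- an involution fixing a point centralises it -/
theorem inv_fix (p x : Pt Z) (m : Pt V) (_ : inc p m) (_ : inc x m) (_ : x ≠ p) (g : G)
    (_ : g ∈ centralizer (p.sg : Set G)) (hg : g * g = 1) (hx : g • x = x) : ∀ u ∈ x.sg, g * u = u * g := by
  obtain ⟨a, rfl⟩ := x.exists_smul
  have h1 : TwoEl g := ⟨1, by rw [pow_one, pow_two]; exact hg⟩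
  refine (h.conj a).two_cent h1 ?_
  rw [← cj_eq_iff]
  exact congrArg Pt.sg hx

variable (hO : OmQ S V) (hns : normalizer ((S : Subgroup G) : Set G) ≤ normalizer (V : Set G))
  (hq : 4 ≤ Nat.card Z) (hNO : KNO.{u} (fun H _ => Img (centralizer (Z : Set G)) H))
  (hPS : KPS.{u} (fun H _ => Img (centralizer (Z : Set G)) H))
include hO hns hq hNO hPS

/-- **FarQ: there is no critical pair at distance `n ≥ 3`.** -/
theorem far_false {n : ℕ} (hn : 3 ≤ n) {x y : Pt Z}
    (hc : Crit (inc (Z := Z) (V := V)) (fun x : Pt Z => ws V x.sg) n x y) : False := by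
  have hf := hf_of_kin h hns hq (by omega) hc hNO hPS
  have D := geom h hf hO
  obtain ⟨H, M, K, iH, iM, iA, iK, ρ, π, ζ, T, lam, U, Kh, F⟩ := exists_rd h hf hO hns hq
  have hI : Img (centralizer (Z : Set G)) H :=
    ⟨MonoidHom.mk' (fun a => ρ a) (fun a b => F.re.mul a a.2 b b.2), fun x => by
      obtain ⟨g, hg, rfl⟩ := F.re.surj x
      exact ⟨⟨g, hg⟩, rfl⟩⟩
  obtain ⟨Pi, hPi⟩ := hPS H M K T lam hI F.flag.toK F.flag.sqR F.flag.cardR
  obtain ⟨κ, E⟩ := F.ext
  have hflag : ∀ (p' : Pt Z) (l' : Pt V), inc p' l' → ∃ g : G, p' = g • Pt.base Z ∧ l' = g • Pt.base V :=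
    fun p' l' hp => exists_smul_flag h hp
  refine Asm.far D hn (noOver D F.toRF hflag (hNO H M T lam hI F.flag.toK)) ?_ hc
  by_cases hs : Single Pi lam
  · exact Or.inr (Plug.sp D F.toRF hflag F.flag hPi.toPSq hs)
  · exact Or.inl (Plug.ns D F.toRF hflag F.flag hPi.toPSq E (inv_fix h) (by omega) hs)

omit hPS in
/-- **MidQ: for `n = 2` the blocks are `Single`.** -/
theorem mid_single (hf : ¬ kx V Z ≤ centralizer (V : Set G)) {x y : Pt Z}
    (hc : Crit (inc (Z := Z) (V := V)) (fun x : Pt Z => ws V x.sg) 2 x y)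
    {H M K : Type u} [Group H] [CommGroup M] [MulDistribMulAction H M] [CommGroup K] {ρ : G → H} {π : G → M}
    {ζ : K →* G} {T : Subgroup H} {lam U : Subgroup M} {Kh : Subgroup (M →* K)}
    (F : RD (inc (Z := Z) (V := V)) (fun x => x.sg) (fun x => ws V x.sg) (fun l => l.sg) (Pt.base Z) (Pt.base V)
        (S : Subgroup G) ρ π ζ T lam U Kh) {Pi : Set (Subgroup H)} (hPi : PSq K T lam Pi) : Single Pi lam := by
  by_contra hs
  have D := geom h hf hO
  have hI : Img (centralizer (Z : Set G)) H :=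
    ⟨MonoidHom.mk' (fun a => ρ a) (fun a b => F.re.mul a a.2 b b.2), fun x => by
      obtain ⟨g, hg, rfl⟩ := F.re.surj x
      exact ⟨⟨g, hg⟩, rfl⟩⟩
  obtain ⟨κ, E⟩ := F.ext
  have hflag : ∀ (p' : Pt Z) (l' : Pt V), inc p' l' → ∃ g : G, p' = g • Pt.base Z ∧ l' = g • Pt.base V :=
    fun p' l' hp => exists_smul_flag h hp
  exact Asm.mid D (noOver D F.toRF hflag (hNO H M T lam hI F.flag.toK))
    (Plug.ns D F.toRF hflag F.flag hPi E (inv_fix h) le_rfl hs) hc

end

end Cfsg.Agent.Omega.NO3S.FarQ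

end

section


/-!
# FarQ (`q ≥ 4`, `n ≥ 3`), K-free: the whole input

* `Frm inc R W V p l Sy ρ π ζ T lam U Kh` : `RD` at the base flag `(p, l)`, all flags are conjugate, `C_G(R_p)` is transitive
  on the lines on `p`, (NO), and (F2') on the base line; `Frm.smul` : transport to every flag;
* `BB U` : the elements of `H` which act trivially on `U` and on `M / U`;
* `Frm.comm_im` .. : translations between `G` and `(H, M)`.
-/

set_option autoImplicit false
set_option linter.unusedSectionVars false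

namespace Cfsg.Agent.Omega.NO3S.FarQ.Free

open Subgroup Cfsg Cfsg.Agent.ZN Cfsg.Agent.MinSimple.VModule Cfsg.Agent.Omega.NOThree.Pts
open Cfsg.Agent.Omega.NOThree.LemmaM (NoOver)
open Cfsg.Agent.Omega.NO3S.FarQ.Glue

section abs

variable {H M : Type*} [Group H] [CommGroup M] [MulDistribMulAction H M]

/-- `C_H(U) ∩ C_H(M/U)` -/
def BB (U : Subgroup M) : Subgroup H where
  carrier := {h | (∀ u ∈ U, h • u = u) ∧ ∀ m : M, (h • m) * m⁻¹ ∈ U}
  one_mem' := ⟨fun u _ => one_smul H u, fun m => by rw [one_smul, mul_inv_cancel]; exact one_mem _⟩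
  mul_mem' := by
    rintro a b ⟨ha, ha'⟩ ⟨hb, hb'⟩
    refine ⟨fun u hu => by rw [mul_smul, hb u hu, ha u hu], fun m => ?_⟩
    have e : (a * b) • m * m⁻¹ = (a • ((b • m) * m⁻¹)) * ((a • m) * m⁻¹) := by
      rw [mul_smul, smul_mul', smul_inv', mul_assoc, ← mul_assoc (a • m)⁻¹, inv_mul_cancel, one_mul]
    rw [e, ha _ (hb' m)]
    exact mul_mem (hb' m) (ha' m)
  inv_mem' := by
    rintro a ⟨ha, ha'⟩
    have h1 : ∀ u ∈ U, a⁻¹ • u = u := fun u hu => by rw [inv_smul_eq_iff]; exact (ha u hu).symm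
    refine ⟨h1, fun m => ?_⟩
    have h2 := h1 _ (inv_mem (ha' m))
    rw [mul_inv_rev, inv_inv, smul_mul', smul_inv', inv_smul_smul] at h2
    rw [h2]
    have h3 := inv_mem (ha' m)
    rwa [mul_inv_rev, inv_inv] at h3

theorem mem_BB {U : Subgroup M} {h : H} : h ∈ BB U ↔ (∀ u ∈ U, h • u = u) ∧ ∀ m : M, (h • m) * m⁻¹ ∈ U := Iff.rfl

end abs

variable {G X L : Type*} [Group G] [MulAction G X] [MulAction G L]
variable {inc : X → L → Prop} {R W : X → Subgroup G} {V : L → Subgroup G} {s t n : ℕ}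
variable {H M K : Type*} [Group H] [CommGroup M] [MulDistribMulAction H M] [CommGroup K]

/-- **The whole input of FarQ.** -/
structure Frm (inc : X → L → Prop) (R W : X → Subgroup G) (V : L → Subgroup G) (p : X) (l : L) (Sy : Subgroup G)
    (ρ : G → H) (π : G → M) (ζ : K →* G) (T : Subgroup H) (lam U : Subgroup M) (Kh : Subgroup (M →* K)) : Prop
    extends RD inc R W V p l Sy ρ π ζ T lam U Kh where
  fl : ∀ x m, inc x m → ∃ g : G, x = g • p ∧ m = g • l
  cl : ∀ m, inc p m → ∃ c ∈ centralizer (R p : Set G), m = c • l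
  no : NoOv (H := H) lam
  /-- (F2') -/
  f2 : ∀ u, (∀ y, inc y l → u ∈ W y) → u ∉ V l → ∀ y, inc y l → ∀ r ∈ R y,
    ∃ k ∈ centralizer (V l : Set G), (∀ w ∈ W y, k * w * k⁻¹ * w⁻¹ ∈ R y) ∧ k * u * k⁻¹ * u⁻¹ = r

namespace Frm

variable {p : X} {l : L} {Sy : Subgroup G} {ρ : G → H} {π : G → M} {ζ : K →* G} {T : Subgroup H}
  {lam U : Subgroup M} {Kh : Subgroup (M →* K)}

/-- Transport. -/
theorem smul (D : Geom inc R W V s t) (F : Frm inc R W V p l Sy ρ π ζ T lam U Kh) (g : G) :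
    Frm inc R W V (g • p) (g • l) (Sy.map (MulAut.conj g).toMonoidHom) (fun a => ρ (g⁻¹ * a * g))
      (fun w => π (g⁻¹ * w * g)) ((MulAut.conj g).toMonoidHom.comp ζ) T lam U Kh where
  toRD := F.toRD.smul D g
  fl x m hxm := by
    obtain ⟨a, rfl, rfl⟩ := F.fl x m hxm
    exact ⟨a * g⁻¹, by rw [mul_smul, inv_smul_smul], by rw [mul_smul, inv_smul_smul]⟩
  cl m hm := by
    have h1 := D.inc_smul g⁻¹ _ _ hm
    rw [inv_smul_smul] at h1
    obtain ⟨c, hc, h2⟩ := F.cl _ h1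
    refine ⟨g * c * g⁻¹, ?_, ?_⟩
    · rw [mem_centralizer_iff] at hc ⊢
      intro r hr
      have h3 := hc _ ((D.R_smul_iff g).1 hr)
      calc r * (g * c * g⁻¹) = g * ((g⁻¹ * r * g) * c) * g⁻¹ := by group
        _ = g * (c * (g⁻¹ * r * g)) * g⁻¹ := by rw [h3]
        _ = g * c * g⁻¹ * r := by group
    · rw [mul_smul, mul_smul, inv_smul_smul, ← h2, smul_inv_smul]
  no := F.no
  f2 u hu huV y hy r hr := by
    have mV : ∀ {a : G}, a ∈ V (g • l) ↔ g⁻¹ * a * g ∈ V l := by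
      intro a
      constructor
      · intro h
        have := D.V_smul g⁻¹ _ a h
        rwa [inv_smul_smul, inv_inv] at this
      · intro h
        have := D.V_smul g _ _ h
        have e : g * (g⁻¹ * a * g) * g⁻¹ = a := by group
        rwa [e] at this
    have hi : inc (g⁻¹ • y) l := by
      have h1 := D.inc_smul g⁻¹ _ _ hy
      rwa [inv_smul_smul] at h1
    have hW : ∀ {z : X} {a : G}, g⁻¹ * a * g ∈ W (g⁻¹ • z) ↔ a ∈ W z := by
      intro z a
      have := D.W_smul_iff g (x := g⁻¹ • z) (a := a)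
      rw [smul_inv_smul] at this
      exact this.symm
    have hR : ∀ {z : X} {a : G}, g⁻¹ * a * g ∈ R (g⁻¹ • z) ↔ a ∈ R z := by
      intro z a
      have := D.R_smul_iff g (x := g⁻¹ • z) (a := a)
      rw [smul_inv_smul] at this
      exact this.symm
    obtain ⟨k, hk, hk1, hk2⟩ := F.f2 (g⁻¹ * u * g) (fun z hz => by
      have h1 := D.inc_smul g _ _ hz
      have h2 := hu _ h1
      exact (D.W_smul_iff g).1 h2) (fun e => huV (mV.2 e)) _ hi _ (hR.2 hr)
    refine ⟨g * k * g⁻¹, ?_, fun w hw => ?_, ?_⟩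
    · rw [mem_centralizer_iff] at hk ⊢
      intro v hv
      have h3 := hk _ (mV.1 hv)
      calc v * (g * k * g⁻¹) = g * ((g⁻¹ * v * g) * k) * g⁻¹ := by group
        _ = g * (k * (g⁻¹ * v * g)) * g⁻¹ := by rw [h3]
        _ = g * k * g⁻¹ * v := by group
    · have h1 := hk1 _ (hW.2 hw)
      rw [← hR (z := y)]
      have e : g⁻¹ * (g * k * g⁻¹ * w * (g * k * g⁻¹)⁻¹ * w⁻¹) * g =
          k * (g⁻¹ * w * g) * k⁻¹ * (g⁻¹ * w * g)⁻¹ := by group
      rwa [e]
    · calc g * k * g⁻¹ * u * (g * k * g⁻¹)⁻¹ * u⁻¹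
          = g * (k * (g⁻¹ * u * g) * k⁻¹ * (g⁻¹ * u * g)⁻¹) * g⁻¹ := by group
        _ = r := by rw [hk2]; group

/-- **(NO) for all flags.** -/
theorem noOver [Finite G] (D : Geom inc R W V s t) (F : Frm inc R W V p l Sy ρ π ζ T lam U Kh) :
    NoOver inc R W V := FarQ.noOver D F.toRF F.fl F.no

/-- **every flag is realised, with the same `(H, M, T, lam, U)`** -/
theorem at_flag (D : Geom inc R W V s t) (F : Frm inc R W V p l Sy ρ π ζ T lam U Kh) {x : X} {m : L} (hxm : inc x m) :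
    ∃ (Sy' : Subgroup G) (ρ' : G → H) (π' : G → M) (ζ' : K →* G), Frm inc R W V x m Sy' ρ' π' ζ' T lam U Kh := by
  obtain ⟨g, rfl, rfl⟩ := F.fl x m hxm
  exact ⟨_, _, _, _, F.smul D g⟩

/-- `V_l = R_x R_y` on every line -/
theorem line_all (D : Geom inc R W V s t) (F : Frm inc R W V p l Sy ρ π ζ T lam U Kh) :
    ∀ m x y, inc x m → inc y m → x ≠ y → ∀ v ∈ V m, ∃ r ∈ R x, ∃ r' ∈ R y, v = r * r' := by
  intro m x y hx hy hne v hv
  obtain ⟨_, _, _, _, F'⟩ := F.at_flag D hx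
  exact F'.line y hy hne.symm v hv

end Frm

end Cfsg.Agent.Omega.NO3S.FarQ.Free

end
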