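import Cfsg.Agent.Mrg.Omega.NOThree.Pts
import Cfsg.Agent.Mrg.Omega.NO3S.FarQ.Core
import Cfsg.Agent.Involutions.BaerSuzuki

section


/-!
# NO-3S, `q ≥ 4`: the module facts (6.1), (6.2) on the `G`-side (helper263 #15995)

* `RF inc R W V p l ρ π lam U` : the flag `(p, l)` is realised by `(H, M)`, `lam = V_l / R_p`, `U = I_l / R_p`;
  `RF.smul` : transport;
* `RF.exact` : `Ex p l A` gives `Exact lam (ρ A)`;
* `RF.k1`, `RF.k2` : (6.1) (α), (β) if not `Single`; `RF.sp` : (6.2) if `Single`.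
-/

set_option autoImplicit false
set_option linter.unusedSectionVars false

namespace Cfsg.Agent.Omega.NO3S.FarQ.Glue

open Subgroup Cfsg Cfsg.Agent.ZN Cfsg.Agent.MinSimple.VModule Cfsg.Agent.Omega.NOThree.Pts
open Cfsg.Agent.Omega.NOThree.LemmaM (NoOver)
open Cfsg.Agent.Omega.NO3S.FarQ.Asm

variable {G X L : Type*} [Group G] [MulAction G X] [MulAction G L]
variable {inc : X → L → Prop} {R W : X → Subgroup G} {V : L → Subgroup G} {s t n : ℕ}
variable {H M : Type*} [Group H] [CommGroup M] [MulDistribMulAction H M]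

/-- **A realised flag.** -/
structure RF (inc : X → L → Prop) (R W : X → Subgroup G) (V : L → Subgroup G) (p : X) (l : L)
    (ρ : G → H) (π : G → M) (lam U : Subgroup M) : Prop where
  re : Four.Real R W p ρ π
  pl : inc p l
  mlam : ∀ m, m ∈ lam ↔ ∃ v ∈ V l, π v = m
  mU : ∀ m, m ∈ U ↔ ∃ u ∈ W p, (∀ y, inc y l → u ∈ W y) ∧ π u = m
  cov : ∀ c ∈ fixer lam, ∃ g ∈ centralizer (V l : Set G), ρ g = c

/-- `ρ(A)` -/
def im {p : X} {ρ : G → H} {π : G → M} (Re : Four.Real R W p ρ π) (A : Subgroup G)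
    (hA : A ≤ centralizer (R p : Set G)) : Subgroup H where
  carrier := {h | ∃ a ∈ A, ρ a = h}
  one_mem' := ⟨1, one_mem _, Re.one⟩
  mul_mem' := by
    rintro _ _ ⟨a, ha, rfl⟩ ⟨b, hb, rfl⟩
    exact ⟨a * b, mul_mem ha hb, Re.mul a (hA ha) b (hA hb)⟩
  inv_mem' := by
    rintro _ ⟨a, ha, rfl⟩
    exact ⟨a⁻¹, inv_mem ha, Re.inv (hA ha)⟩

theorem mem_im {p : X} {ρ : G → H} {π : G → M} {Re : Four.Real R W p ρ π} {A : Subgroup G}
    {hA : A ≤ centralizer (R p : Set G)} {h : H} : h ∈ im Re A hA ↔ ∃ a ∈ A, ρ a = h := Iff.rfl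

section real

variable {p : X} {ρ : G → H} {π : G → M} (Re : Four.Real R W p ρ π)
include Re

theorem π_one : π 1 = 1 := (Re.pker 1 (one_mem _)).2 (one_mem _)

theorem π_inv {v : G} (hv : v ∈ W p) : π v⁻¹ = (π v)⁻¹ := by
  have h4 := Re.pmul v hv v⁻¹ (inv_mem hv)
  rw [mul_inv_cancel, π_one Re] at h4
  exact (inv_eq_of_mul_eq_one_right h4.symm).symm

/-- `π [g, w] = (ρ g • π w) (π w)⁻¹` -/
theorem π_comm (D : Geom inc R W V s t) {g w : G} (hg : g ∈ centralizer (R p : Set G)) (hw : w ∈ W p) :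
    π (g * w * g⁻¹ * w⁻¹) = (ρ g • π w) * (π w)⁻¹ := by
  rw [Re.pmul _ (Four.norm_p D hg hw) _ (inv_mem hw), Re.act g hg w hw, π_inv Re hw]

theorem comm_mem_iff (D : Geom inc R W V s t) {g w : G} (hg : g ∈ centralizer (R p : Set G)) (hw : w ∈ W p) :
    g * w * g⁻¹ * w⁻¹ ∈ R p ↔ ρ g • π w = π w := by
  rw [← Re.pker _ (mul_mem (Four.norm_p D hg hw) (inv_mem hw)), π_comm Re D hg hw, mul_inv_eq_one]

/-- the fibres of `π` -/
theorem mem_mul_R {v w : G} (hv : v ∈ W p) (hw : w ∈ W p) (h : π v = π w) : v * w⁻¹ ∈ R p := by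
  rw [← Re.pker _ (mul_mem hv (inv_mem hw)), Re.pmul _ hv _ (inv_mem hw), π_inv Re hw, h, mul_inv_cancel]

end real

namespace RF

variable {p : X} {l : L} {ρ : G → H} {π : G → M} {lam U : Subgroup M}

/-- Transport. -/
theorem smul (D : Geom inc R W V s t) (F : RF inc R W V p l ρ π lam U) (g : G) :
    RF inc R W V (g • p) (g • l) (fun a => ρ (g⁻¹ * a * g)) (fun w => π (g⁻¹ * w * g)) lam U := by
  have mR : ∀ {x : X} {a : G}, a ∈ R (g • x) ↔ g⁻¹ * a * g ∈ R x := D.R_smul_iff g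
  have mW : ∀ {x : X} {a : G}, a ∈ W (g • x) ↔ g⁻¹ * a * g ∈ W x := D.W_smul_iff g
  have mV : ∀ {x : L} {a : G}, a ∈ V (g • x) ↔ g⁻¹ * a * g ∈ V x := by
    intro x a
    constructor
    · intro h
      have := D.V_smul g⁻¹ _ a h
      rwa [inv_smul_smul, inv_inv] at this
    · intro h
      have := D.V_smul g _ _ h
      have e : g * (g⁻¹ * a * g) * g⁻¹ = a := by group
      rwa [e] at this
  have hc : ∀ {a}, a ∈ centralizer (R (g • p) : Set G) → g⁻¹ * a * g ∈ centralizer (R p : Set G) := by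
    intro a ha
    rw [mem_centralizer_iff] at ha ⊢
    intro r hr
    have h1 := ha (g * r * g⁻¹) (D.R_smul g p r hr)
    calc r * (g⁻¹ * a * g) = g⁻¹ * ((g * r * g⁻¹) * a) * g := by group
      _ = g⁻¹ * (a * (g * r * g⁻¹)) * g := by rw [h1]
      _ = g⁻¹ * a * g * r := by group
  have hc' : ∀ {a}, a ∈ centralizer (R p : Set G) → g * a * g⁻¹ ∈ centralizer (R (g • p) : Set G) := by
    intro a ha
    rw [mem_centralizer_iff] at ha ⊢
    intro r hr
    have h1 := ha _ (mR.1 hr)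
    calc r * (g * a * g⁻¹) = g * ((g⁻¹ * r * g) * a) * g⁻¹ := by group
      _ = g * (a * (g⁻¹ * r * g)) * g⁻¹ := by rw [h1]
      _ = g * a * g⁻¹ * r := by group
  refine ⟨⟨?_, ?_, ?_, ?_, ?_, ?_, ?_⟩, D.inc_smul g _ _ F.pl, ?_, ?_, ?_⟩
  · intro a ha b hb
    have e : g⁻¹ * (a * b) * g = (g⁻¹ * a * g) * (g⁻¹ * b * g) := by group
    show ρ (g⁻¹ * (a * b) * g) = _
    rw [e, F.re.mul _ (hc ha) _ (hc hb)]
  · intro h
    obtain ⟨a, ha, rfl⟩ := F.re.surj h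
    refine ⟨g * a * g⁻¹, hc' ha, ?_⟩
    show ρ (g⁻¹ * (g * a * g⁻¹) * g) = ρ a
    congr 1; group
  · intro a ha
    show ρ (g⁻¹ * a * g) = 1 ↔ _
    rw [F.re.ker _ (hc ha)]
    constructor
    · intro h w hw
      rw [mR]
      have h1 := h _ (mW.1 hw)
      have e : g⁻¹ * (a * w * a⁻¹ * w⁻¹) * g = g⁻¹ * a * g * (g⁻¹ * w * g) * (g⁻¹ * a * g)⁻¹ * (g⁻¹ * w * g)⁻¹ := by
        group
      rwa [e]
    · intro h w hw
      have h1 := h (g * w * g⁻¹) (D.W_smul g p w hw)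
      rw [mR] at h1
      have e : g⁻¹ * (a * (g * w * g⁻¹) * a⁻¹ * (g * w * g⁻¹)⁻¹) * g =
          g⁻¹ * a * g * w * (g⁻¹ * a * g)⁻¹ * w⁻¹ := by group
      rwa [e] at h1
  · intro a ha b hb
    have e : g⁻¹ * (a * b) * g = (g⁻¹ * a * g) * (g⁻¹ * b * g) := by group
    show π (g⁻¹ * (a * b) * g) = _
    rw [e, F.re.pmul _ (mW.1 ha) _ (mW.1 hb)]
  · intro m
    obtain ⟨a, ha, rfl⟩ := F.re.psurj m
    refine ⟨g * a * g⁻¹, D.W_smul g p a ha, ?_⟩
    show π (g⁻¹ * (g * a * g⁻¹) * g) = π a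
    congr 1; group
  · intro a ha
    show π (g⁻¹ * a * g) = 1 ↔ _
    rw [F.re.pker _ (mW.1 ha), mR]
  · intro a ha w hw
    have e : g⁻¹ * (a * w * a⁻¹) * g = (g⁻¹ * a * g) * (g⁻¹ * w * g) * (g⁻¹ * a * g)⁻¹ := by group
    show π (g⁻¹ * (a * w * a⁻¹) * g) = _
    rw [e, F.re.act _ (hc ha) _ (mW.1 hw)]
  · intro m
    rw [F.mlam]
    constructor
    · rintro ⟨v, hv, rfl⟩
      refine ⟨g * v * g⁻¹, D.V_smul g l v hv, ?_⟩
      show π (g⁻¹ * (g * v * g⁻¹) * g) = π v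
      congr 1; group
    · rintro ⟨v, hv, rfl⟩
      exact ⟨_, mV.1 hv, rfl⟩
  · intro m
    rw [F.mU]
    constructor
    · rintro ⟨u, hu, hu', rfl⟩
      refine ⟨g * u * g⁻¹, D.W_smul g p u hu, fun y hy => ?_, ?_⟩
      · have h1 := D.inc_smul g⁻¹ _ _ hy
        rw [inv_smul_smul] at h1
        have h2 := D.W_smul g _ _ (hu' _ h1)
        rwa [smul_inv_smul] at h2
      · show π (g⁻¹ * (g * u * g⁻¹) * g) = π u
        congr 1; group
    · rintro ⟨u, hu, hu', rfl⟩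
      exact ⟨_, mW.1 hu, fun y hy => mW.1 (hu' _ (D.inc_smul g _ _ hy)), rfl⟩
  · intro c hcf
    obtain ⟨a, ha, rfl⟩ := F.cov c hcf
    refine ⟨g * a * g⁻¹, ?_, ?_⟩
    · rw [mem_centralizer_iff] at ha ⊢
      intro v hv
      have h1 := ha _ (mV.1 hv)
      calc v * (g * a * g⁻¹) = g * ((g⁻¹ * v * g) * a) * g⁻¹ := by group
        _ = g * (a * (g⁻¹ * v * g)) * g⁻¹ := by rw [h1]
        _ = g * a * g⁻¹ * v := by group
    · show ρ (g⁻¹ * (g * a * g⁻¹) * g) = ρ a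
      congr 1; group

variable (D : Geom inc R W V s t) (F : RF inc R W V p l ρ π lam U)
include D F

theorem cent_V_le : centralizer (V l : Set G) ≤ centralizer (R p : Set G) := centralizer_le (D.R_le p l F.pl)

omit F in
theorem A_le {A : Subgroup G} (hE : Ex inc R W V p l A) : A ≤ centralizer (R p : Set G) :=
  hE.le.trans ((o2_le _).trans (centralizer_le (D.R_le p l hE.ql)))

variable [Finite G]

/-- `ρ(O₂(C_G(V_l))) ≤ O₂(C_H(lam))` -/
theorem im_le {A : Subgroup G} (hA : A ≤ o2 (centralizer (V l : Set G))) (hA' : A ≤ centralizer (R p : Set G)) :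
    im F.re A hA' ≤ o2 (fixer lam) := by
  set Q := o2 (centralizer (V l : Set G)) with hQ
  have hQC : Q ≤ centralizer (V l : Set G) := o2_le _
  have hQR : Q ≤ centralizer (R p : Set G) := hQC.trans (cent_V_le D F)
  have h1 : im F.re Q hQR ≤ o2 (fixer lam) := by
    refine le_o2 ?_ ?_ ?_
    · rintro _ ⟨a, ha, rfl⟩
      intro m hm
      obtain ⟨v, hv, rfl⟩ := (F.mlam m).1 hm
      have hvW : v ∈ W p := D.V_le p l F.pl hv
      rw [← F.re.act a (hQR ha) v hvW]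
      congr 1
      have h2 := mem_centralizer_iff.1 (hQC ha) v hv
      rw [← h2]; group
    · rintro ⟨_, a, ha, rfl⟩
      obtain ⟨k, hk⟩ := o2_isPGroup (centralizer (V l : Set G)) ⟨a, ha⟩
      have hk' : a ^ 2 ^ k = 1 := congrArg Subtype.val hk
      refine ⟨k, Subtype.ext ?_⟩
      show ρ a ^ 2 ^ k = 1
      have hpow : ∀ j : ℕ, ρ (a ^ j) = ρ a ^ j := by
        intro j
        induction j with
        | zero => rw [pow_zero, pow_zero, F.re.one]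
        | succ j ih => rw [pow_succ, pow_succ, F.re.mul _ (pow_mem (hQR ha) j) _ (hQR ha), ih]
      rw [← hpow, hk', F.re.one]
    · refine mem_normalizer_of_conj ?_
      rintro c hc _ ⟨a, ha, rfl⟩
      obtain ⟨g, hg, rfl⟩ := F.cov c hc
      refine ⟨g * a * g⁻¹, conj_mem_of_le_normalizer (le_normalizer_o2 _) hg ha, ?_⟩
      exact F.re.conj (cent_V_le D F hg) (hQR ha)
  refine le_trans ?_ h1
  rintro _ ⟨a, ha, rfl⟩
  exact ⟨a, hA ha, rfl⟩

/-- **The image of an exact group is exact.** -/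
theorem exact {A : Subgroup G} (hE : Ex inc R W V p l A) : Exact lam (im F.re A (A_le D hE)) := by
  have hAR := A_le D hE
  have hcomm : ∀ a ∈ A, ∀ u ∈ W p, π (a * u * a⁻¹ * u⁻¹) = (ρ a • π u) * (π u)⁻¹ :=
    fun a ha u hu => π_comm F.re D (hAR ha) hu
  refine ⟨?_, im_le D F hE.le _, ?_, ?_, ?_, ?_⟩
  · intro h0
    obtain ⟨a, ha, u, hu, hne⟩ := hE.ne
    apply hne
    have h1 : ρ a ∈ im F.re A hAR := ⟨a, ha, rfl⟩
    rw [h0, mem_bot] at h1
    rw [comm_mem_iff F.re D (hAR ha) hu, h1, one_smul]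
  · rintro _ ⟨a, ha, rfl⟩ _ ⟨b, hb, rfl⟩
    rw [← F.re.mul a (hAR ha) b (hAR hb), hE.comm a ha b hb, F.re.mul b (hAR hb) a (hAR ha)]
  · rintro _ ⟨a, ha, rfl⟩
    rw [← F.re.mul a (hAR ha) a (hAR ha), hE.sq a ha, F.re.one]
  · rintro _ ⟨a, ha, rfl⟩ _ ⟨b, hb, rfl⟩ m
    obtain ⟨u, hu, rfl⟩ := F.re.psurj m
    rw [← hcomm a ha u hu, ← F.re.act b (hAR hb) _ (mul_mem (Four.norm_p D (hAR ha) hu) (inv_mem hu))]
    congr 1
    rw [hE.quad a ha b hb u hu, mul_inv_cancel_right]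
  · -- cardinalities
    let φ : A →* H := MonoidHom.mk' (fun a => ρ a) (fun a b => F.re.mul a (hAR a.2) b (hAR b.2))
    let ψ : W p →* M := MonoidHom.mk' (fun a => π a) (fun a b => F.re.pmul a a.2 b b.2)
    have hψ : Function.Surjective ψ := fun m => by
      obtain ⟨u, hu, rfl⟩ := F.re.psurj m
      exact ⟨⟨u, hu⟩, rfl⟩
    have hrange : φ.range = im F.re A hAR := by
      ext h
      constructor
      · rintro ⟨a, rfl⟩
        exact ⟨a, a.2, rfl⟩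
      · rintro ⟨a, ha, rfl⟩
        exact ⟨⟨a, ha⟩, rfl⟩
    set C' := (zm M (im F.re A hAR)).comap ψ with hC'
    have h1 := hE.eq (φ.ker.map A.subtype) (C'.map (W p).subtype) ?_ ?_
    · have e0 : Nat.card (im F.re A hAR) = φ.ker.index := by rw [← hrange, index_ker]
      rw [e0, ← index_comap_of_surjective _ hψ, ← hC']
      have e1 : (φ.ker.map A.subtype).relIndex A = φ.ker.index := by
        unfold relIndex
        rw [subgroupOf, comap_map_eq_self_of_injective A.subtype_injective]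
      have e2 : (C'.map (W p).subtype).relIndex (W p) = C'.index := by
        unfold relIndex
        rw [subgroupOf, comap_map_eq_self_of_injective (W p).subtype_injective]
      rw [e1, e2] at h1
      exact h1
    · intro a
      constructor
      · rintro ⟨⟨b, hb⟩, hb1, rfl⟩
        refine ⟨hb, fun u hu => ?_⟩
        have hb1' : ρ b = 1 := hb1
        show b * u * b⁻¹ * u⁻¹ ∈ R p
        rw [comm_mem_iff F.re D (hAR hb) hu, hb1', one_smul]
      · rintro ⟨ha, ha'⟩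
        refine ⟨⟨a, ha⟩, ?_, rfl⟩
        show ρ a = 1
        exact (F.re.ker a (hAR ha)).2 ha'
    · intro u
      constructor
      · rintro ⟨⟨v, hv⟩, hv1, rfl⟩
        refine ⟨hv, fun a ha => ?_⟩
        have hv1' : π v ∈ zm M (im F.re A hAR) := hv1
        show a * v * a⁻¹ * v⁻¹ ∈ R p
        rw [comm_mem_iff F.re D (hAR ha) hv]
        exact hv1' _ ⟨a, ha, rfl⟩
      · rintro ⟨hu, hu'⟩
        refine ⟨⟨u, hu⟩, ?_, rfl⟩
        show π u ∈ zm M (im F.re A hAR)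
        rintro _ ⟨a, ha, rfl⟩
        exact (comm_mem_iff F.re D (hAR ha) hu).1 (hu' a ha)

variable {K : Type*} [CommGroup K] {T : Subgroup H} {Kh : Subgroup (M →* K)} {Pi : Set (Subgroup H)}
  (hF : Flag T lam U Kh) (hP : PSq K T lam Pi)
include hF hP

/-- **(6.1)(α)** -/
theorem k1 (hns : ¬ Single Pi lam) {A : Subgroup G} (hE : Ex inc R W V p l A) {y : X} (hy : inc y l)
    (hyp : y ≠ p) : ¬ ∀ a ∈ A, ∀ u ∈ W p, a * u * a⁻¹ * u⁻¹ ∈ W y := by
  intro h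
  have hAR := A_le D hE
  refine PSq.no_alpha hF hP (exact D F hE) hns (em_le_iff.2 ?_)
  rintro _ ⟨a, ha, rfl⟩ m
  obtain ⟨u, hu, rfl⟩ := F.re.psurj m
  have h1 : a * u * a⁻¹ * u⁻¹ ∈ W p := mul_mem (Four.norm_p D (hAR ha) hu) (inv_mem hu)
  rw [← π_comm F.re D (hAR ha) hu, F.mU]
  exact ⟨_, h1, fun z hz => D.inf_le F.pl hy hz hyp.symm ⟨h1, h a ha u hu⟩, rfl⟩

/-- **(6.1)(β)** -/
theorem k2 (hns : ¬ Single Pi lam) {A : Subgroup G} (hE : Ex inc R W V p l A) {y : X} (hy : inc y l)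
    (hyp : y ≠ p) : ¬ ∀ u ∈ W p, (∀ a ∈ A, a * u * a⁻¹ * u⁻¹ ∈ R p) → u ∈ W y := by
  intro h
  have hAR := A_le D hE
  refine PSq.no_beta hF hP (exact D F hE) hns ?_
  intro m hm
  obtain ⟨u, hu, rfl⟩ := F.re.psurj m
  have h1 : u ∈ W y := h u hu fun a ha =>
    (comm_mem_iff F.re D (hAR ha) hu).2 (hm _ (show ρ a ∈ im F.re A hAR from ⟨a, ha, rfl⟩))
  refine (F.mU _).2 ⟨u, hu, fun z hz => D.inf_le F.pl hy hz hyp.symm (mem_inf.2 ⟨hu, h1⟩), rfl⟩

/-- **(6.2)** -/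
theorem sp (hs : Single Pi lam) {A : Subgroup G} (hE : Ex inc R W V p l A) {a u : G} (ha : a ∈ A)
    (hu : u ∈ W p) : ∃ m, inc p m ∧ a * u * a⁻¹ * u⁻¹ ∈ V m := by
  have hAR := A_le D hE
  have h1 : a * u * a⁻¹ * u⁻¹ ∈ W p := mul_mem (Four.norm_p D (hAR ha) hu) (inv_mem hu)
  by_cases h0 : π (a * u * a⁻¹ * u⁻¹) = 1
  · exact ⟨l, F.pl, D.R_le p l F.pl ((F.re.pker _ h1).1 h0)⟩
  have he : π (a * u * a⁻¹ * u⁻¹) ∈ em M (im F.re A hAR) := by
    rw [π_comm F.re D (hAR ha) hu]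
    exact comm_mem_em (show ρ a ∈ im F.re A hAR from ⟨a, ha, rfl⟩) _
  obtain ⟨h, b, hb, hhb⟩ := PSq.single hF hP hs (exact D F hE) he h0
  obtain ⟨g, hg, rfl⟩ := F.re.surj h
  obtain ⟨v, hv, rfl⟩ := (F.mlam b).1 hb
  have hvW : v ∈ W p := D.V_le p l F.pl hv
  rw [← F.re.act g hg v hvW] at hhb
  have h2 := mem_mul_R F.re h1 (Four.norm_p D hg hvW) hhb.symm
  have h3 : inc p (g • l) := by
    have := D.inc_smul g _ _ F.pl
    rwa [Four.fix_p D hg] at this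
  refine ⟨g • l, h3, ?_⟩
  have h4 := mul_mem (D.R_le p _ h3 h2) (D.V_smul g l v hv)
  rwa [inv_mul_cancel_right] at h4

end RF

end Cfsg.Agent.Omega.NO3S.FarQ.Glue

end

section


/-!
# NO-3S, `q ≥ 4`: the realised flag with its Sylow subgroup and `K_p` (helper263 #15995)

* `RD inc R W V p l Sy ρ π ζ T lam U Kh` : `Glue.RF`, `Abs.Flag`, `T = ρ(Sy)`, `ζ : K ≃ R_p`, `Kh` = the maps
  `m ↦ [k, w]`, `k ∈ K_p`, and the transitivity of `K_p` on the points `≠ p` of `l`;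
* `RD.smul` : transport; `RD.four` : helper712's `Four.Flag`.
-/

set_option autoImplicit false
set_option linter.unusedSectionVars false

namespace Cfsg.Agent.Omega.NO3S.FarQ

open Subgroup Cfsg Cfsg.Agent.ZN Cfsg.Agent.MinSimple.VModule Cfsg.Agent.Omega.NOThree.Pts
open Cfsg.Agent.Omega.NO3S.FarQ.Glue

variable {G X L : Type*} [Group G] [MulAction G X] [MulAction G L]
variable {inc : X → L → Prop} {R W : X → Subgroup G} {V : L → Subgroup G} {s t n : ℕ}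
variable {H M K : Type*} [Group H] [CommGroup M] [MulDistribMulAction H M] [CommGroup K]

/-- **A realised flag with all its data.** -/
structure RD (inc : X → L → Prop) (R W : X → Subgroup G) (V : L → Subgroup G) (p : X) (l : L) (Sy : Subgroup G)
    (ρ : G → H) (π : G → M) (ζ : K →* G) (T : Subgroup H) (lam U : Subgroup M) (Kh : Subgroup (M →* K)) : Prop
    extends RF inc R W V p l ρ π lam U where
  flag : Flag T lam U Kh
  sy : Sy ≤ centralizer (R p : Set G)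
  mT : ∀ t, t ∈ T ↔ ∃ s ∈ Sy, ρ s = t
  cen : ∀ w ∈ W p, (∀ s ∈ Sy, s * w = w * s) → w ∈ R p
  inj : Function.Injective ζ
  ran : ∀ g, g ∈ R p ↔ ∃ r, ζ r = g
  kh : ∀ φ ∈ Kh, ∃ k ∈ centralizer (R p : Set G), ∀ w ∈ W p, k * w * k⁻¹ * w⁻¹ = ζ (φ (π w))
  kh' : ∀ k ∈ centralizer (R p : Set G), (∀ w ∈ W p, k * w * k⁻¹ * w⁻¹ ∈ R p) →
    ∃ φ ∈ Kh, ∀ w ∈ W p, k * w * k⁻¹ * w⁻¹ = ζ (φ (π w))
  line : ∀ x, inc x l → x ≠ p → ∀ v ∈ V l, ∃ r ∈ R p, ∃ r' ∈ R x, v = r * r'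
  tr : ∀ x y, inc x l → x ≠ p → inc y l → y ≠ p →
    ∃ k ∈ centralizer (R p : Set G), (∀ w ∈ W p, k * w * k⁻¹ * w⁻¹ ∈ R p) ∧ k • y = x

namespace RD

variable {p : X} {l : L} {Sy : Subgroup G} {ρ : G → H} {π : G → M} {ζ : K →* G} {T : Subgroup H}
  {lam U : Subgroup M} {Kh : Subgroup (M →* K)}

/-- helper712's flag -/
theorem four (F : RD inc R W V p l Sy ρ π ζ T lam U Kh) {x₁ q : X} (h1 : inc x₁ l) (h2 : x₁ ≠ p)
    (h3 : ∀ f ∈ W q, f ∈ centralizer (R p : Set G)) (h4 : ∀ f ∈ W q, ∀ w ∈ W x₁, f * w = w * f) :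
    Four.Flag inc R W V p x₁ q l where
  pl := F.pl
  xl := h1
  ne := h2
  cen := h3
  com := h4
  line := F.line x₁ h1 h2
  tr y hy hyp := F.tr x₁ y h1 h2 hy hyp

/-- `lam` is helper712's `Lam` -/
theorem mem_Lam (F : RD inc R W V p l Sy ρ π ζ T lam U Kh) {m : M} : m ∈ Four.Lam π V l ↔ m ∈ lam := by
  rw [F.mlam]
  constructor
  · rintro ⟨v, hv, rfl⟩
    exact ⟨v, hv, rfl⟩
  · rintro ⟨v, hv, rfl⟩
    exact ⟨v, hv, rfl⟩

/-- Transport. -/
theorem smul (D : Geom inc R W V s t) (F : RD inc R W V p l Sy ρ π ζ T lam U Kh) (g : G) :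
    RD inc R W V (g • p) (g • l) (Sy.map (MulAut.conj g).toMonoidHom) (fun a => ρ (g⁻¹ * a * g))
      (fun w => π (g⁻¹ * w * g)) ((MulAut.conj g).toMonoidHom.comp ζ) T lam U Kh := by
  have mR : ∀ {x : X} {a : G}, a ∈ R (g • x) ↔ g⁻¹ * a * g ∈ R x := D.R_smul_iff g
  have mW : ∀ {x : X} {a : G}, a ∈ W (g • x) ↔ g⁻¹ * a * g ∈ W x := D.W_smul_iff g
  have mV : ∀ {x : L} {a : G}, a ∈ V (g • x) ↔ g⁻¹ * a * g ∈ V x := by
    intro x a
    constructor
    · intro h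
      have := D.V_smul g⁻¹ _ a h
      rwa [inv_smul_smul, inv_inv] at this
    · intro h
      have := D.V_smul g _ _ h
      have e : g * (g⁻¹ * a * g) * g⁻¹ = a := by group
      rwa [e] at this
  have hc : ∀ {a}, a ∈ centralizer (R (g • p) : Set G) → g⁻¹ * a * g ∈ centralizer (R p : Set G) := by
    intro a ha
    rw [mem_centralizer_iff] at ha ⊢
    intro r hr
    have h1 := ha (g * r * g⁻¹) (D.R_smul g p r hr)
    calc r * (g⁻¹ * a * g) = g⁻¹ * ((g * r * g⁻¹) * a) * g := by group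
      _ = g⁻¹ * (a * (g * r * g⁻¹)) * g := by rw [h1]
      _ = g⁻¹ * a * g * r := by group
  have hc' : ∀ {a}, a ∈ centralizer (R p : Set G) → g * a * g⁻¹ ∈ centralizer (R (g • p) : Set G) := by
    intro a ha
    rw [mem_centralizer_iff] at ha ⊢
    intro r hr
    have h1 := ha _ (mR.1 hr)
    calc r * (g * a * g⁻¹) = g * ((g⁻¹ * r * g) * a) * g⁻¹ := by group
      _ = g * (a * (g⁻¹ * r * g)) * g⁻¹ := by rw [h1]
      _ = g * a * g⁻¹ * r := by group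
  have hi : ∀ {x : X} {m : L}, inc x (g • m) ↔ inc (g⁻¹ • x) m := by
    intro x m
    constructor
    · intro h
      have := D.inc_smul g⁻¹ _ _ h
      rwa [inv_smul_smul] at this
    · intro h
      have := D.inc_smul g _ _ h
      rwa [smul_inv_smul] at this
  have hne : ∀ {x : X}, x ≠ g • p → g⁻¹ • x ≠ p := by
    rintro x h rfl
    exact h (smul_inv_smul g x).symm
  refine { toRF := F.toRF.smul D g, flag := F.flag, sy := ?_, mT := ?_, cen := ?_, inj := ?_, ran := ?_,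
           kh := ?_, kh' := ?_, line := ?_, tr := ?_ }
  · rintro _ ⟨s, hs, rfl⟩
    exact hc' (F.sy hs)
  · intro t
    rw [F.mT]
    constructor
    · rintro ⟨s, hs, rfl⟩
      refine ⟨_, ⟨s, hs, rfl⟩, ?_⟩
      show ρ (g⁻¹ * (g * s * g⁻¹) * g) = ρ s
      congr 1; group
    · rintro ⟨_, ⟨s, hs, rfl⟩, rfl⟩
      refine ⟨s, hs, ?_⟩
      show ρ s = ρ (g⁻¹ * (g * s * g⁻¹) * g)
      congr 1; group
  · intro w hw h
    rw [mR]
    refine F.cen _ (mW.1 hw) fun s hs => ?_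
    have h1 := h _ ⟨s, hs, rfl⟩
    have h1' : g * s * g⁻¹ * w = w * (g * s * g⁻¹) := h1
    calc s * (g⁻¹ * w * g) = g⁻¹ * (g * s * g⁻¹ * w) * g := by group
      _ = g⁻¹ * (w * (g * s * g⁻¹)) * g := by rw [h1']
      _ = g⁻¹ * w * g * s := by group
  · intro a b hab
    apply F.inj
    have h1 : g * ζ a * g⁻¹ = g * ζ b * g⁻¹ := hab
    simpa using h1
  · intro a
    rw [mR, F.ran]
    constructor
    · rintro ⟨r, hr⟩
      refine ⟨r, ?_⟩
      show g * ζ r * g⁻¹ = a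
      rw [hr]; group
    · rintro ⟨r, rfl⟩
      refine ⟨r, ?_⟩
      show ζ r = g⁻¹ * (g * ζ r * g⁻¹) * g
      group
  · intro φ hφ
    obtain ⟨k, hk, hk'⟩ := F.kh φ hφ
    refine ⟨g * k * g⁻¹, hc' hk, fun w hw => ?_⟩
    show g * k * g⁻¹ * w * (g * k * g⁻¹)⁻¹ * w⁻¹ = g * ζ (φ (π (g⁻¹ * w * g))) * g⁻¹
    rw [← hk' _ (mW.1 hw)]
    group
  · intro k hk hk'
    obtain ⟨φ, hφ, h1⟩ := F.kh' _ (hc hk) fun w hw => by
      have h2 := hk' (g * w * g⁻¹) (D.W_smul g p w hw)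
      rw [mR] at h2
      have e : g⁻¹ * (k * (g * w * g⁻¹) * k⁻¹ * (g * w * g⁻¹)⁻¹) * g =
          g⁻¹ * k * g * w * (g⁻¹ * k * g)⁻¹ * w⁻¹ := by group
      rwa [e] at h2
    refine ⟨φ, hφ, fun w hw => ?_⟩
    show k * w * k⁻¹ * w⁻¹ = g * ζ (φ (π (g⁻¹ * w * g))) * g⁻¹
    rw [← h1 _ (mW.1 hw)]
    group
  · intro x hx hxp v hv
    obtain ⟨r, hr, r', hr', h1⟩ := F.line _ (hi.1 hx) (hne hxp) _ (mV.1 hv)
    refine ⟨g * r * g⁻¹, D.R_smul g p r hr, g * r' * g⁻¹, ?_, ?_⟩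
    · have := D.R_smul g _ r' hr'
      rwa [smul_inv_smul] at this
    · calc v = g * (g⁻¹ * v * g) * g⁻¹ := by group
        _ = g * (r * r') * g⁻¹ := by rw [h1]
        _ = _ := by group
  · intro x y hx hxp hy hyp
    obtain ⟨k, hk, hk', h1⟩ := F.tr _ _ (hi.1 hx) (hne hxp) (hi.1 hy) (hne hyp)
    refine ⟨g * k * g⁻¹, hc' hk, fun w hw => ?_, ?_⟩
    · rw [mR]
      have h2 := hk' _ (mW.1 hw)
      have e : g⁻¹ * (g * k * g⁻¹ * w * (g * k * g⁻¹)⁻¹ * w⁻¹) * g =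
          k * (g⁻¹ * w * g) * k⁻¹ * (g⁻¹ * w * g)⁻¹ := by group
      rwa [e]
    · rw [mul_smul, mul_smul, h1, smul_inv_smul]

end RD

end Cfsg.Agent.Omega.NO3S.FarQ

end

section


/-!
# NO-3S, `q ≥ 4`, K-free: existence of movers (#19123 (M))

`D : Geom inc R W V s t`, `F : RF inc R W V p l ρ π lam U`, `hF : Flag T lam U Kh`.

* `pCore_eq_bot` : `O₂(H) = 1`;
* `exists_inv` : `f ∈ C_G(R_p)`, `f² = 1`, `ρ f ≠ 1` : some `h ∈ C_G(R_p)` of odd order has `f h f⁻¹ = h⁻¹`, `ρ h ≠ 1`;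
* `not_norm`, `smul_l_ne` : `f ∈ O₂(C_G(V_l))` : such an `h` does not normalise `V_l`;
* `f_moves` : `f (h x₁) ≠ h x₁` for the points `x₁ ≠ p` of `l`;
* `mem_of_comm` : `f ∈ C_G(W_{x₁})`, `u ∈ W_{h x₁}`, `f u = u f` : `u ∈ W_{x₁}`;
* `exists_mover` : everything together.
-/

set_option autoImplicit false
set_option linter.unusedSectionVars false

namespace Cfsg.Agent.Omega.NO3S.FarQ.Free

open Subgroup Cfsg Cfsg.Agent.ZN Cfsg.Agent.MinSimple.VModule Cfsg.Agent.Omega.NOThree.Pts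
open Cfsg.Agent.Omega.NO3S.FarQ.Glue

section grp

variable {G : Type*} [Group G]

/-- an element of odd order is a power of its square -/
theorem exists_pow_sq {h : G} (ho : Odd (orderOf h)) : ∃ k : ℕ, (h * h) ^ k = h := by
  obtain ⟨k, hk⟩ := ho
  refine ⟨k + 1, ?_⟩
  rw [← pow_two, ← pow_mul, show 2 * (k + 1) = orderOf h + 1 by omega, pow_succ, pow_orderOf_eq_one, one_mul]

theorem mem_of_sq_mem {h : G} (ho : Odd (orderOf h)) {N : Subgroup G} (h2 : h * h ∈ N) : h ∈ N := by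
  obtain ⟨k, hk⟩ := exists_pow_sq ho
  rw [← hk]
  exact pow_mem h2 k

/-- `h f h⁻¹ f⁻¹ = h²` if `f` inverts `h` -/
theorem conj_eq_sq {f h : G} (hi : f * h * f⁻¹ = h⁻¹) : h * f * h⁻¹ * f⁻¹ = h * h := by
  have h1 : f * h⁻¹ * f⁻¹ = h := by
    have := congrArg (fun x => x⁻¹) hi
    simpa [mul_assoc] using this
  calc h * f * h⁻¹ * f⁻¹ = h * (f * h⁻¹ * f⁻¹) := by group
    _ = h * h := by rw [h1]

/-- `N(A) ≤ N(C(A))` -/
theorem norm_cent {A : Subgroup G} : normalizer (A : Set G) ≤ normalizer ((centralizer (A : Set G) : Subgroup G) : Set G) := by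
  refine mem_normalizer_of_conj fun g hg a ha => ?_
  rw [mem_centralizer_iff] at ha ⊢
  intro w hw
  have hw' : g⁻¹ * w * g ∈ A := by
    have := (mem_normalizer_iff.1 (inv_mem hg) w).1 hw
    rwa [inv_inv] at this
  have h3 := cg g (ha _ hw')
  have e1 : g * (g⁻¹ * w * g * a) * g⁻¹ = w * (g * a * g⁻¹) := by group
  have e2 : g * (a * (g⁻¹ * w * g)) * g⁻¹ = g * a * g⁻¹ * w := by group
  rwa [e1, e2] at h3

end grp

variable {G X L : Type*} [Group G] [MulAction G X] [MulAction G L]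
variable {inc : X → L → Prop} {R W : X → Subgroup G} {V : L → Subgroup G} {s t n : ℕ}
variable {H M K : Type*} [Group H] [CommGroup M] [MulDistribMulAction H M] [CommGroup K]
variable {p : X} {l : L} {ρ : G → H} {π : G → M} {T : Subgroup H} {lam U : Subgroup M} {Kh : Subgroup (M →* K)}

/-- `O₂(H) = 1`: a normal 2-subgroup of `H` is trivial. -/
theorem eq_bot_of_normal (hF : Flag T lam U Kh) {N : Subgroup H} [N.Normal] (hN : IsPGroup 2 N) : N = ⊥ := by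
  have := hF.finH
  have : Fact (Nat.Prime 2) := ⟨Nat.prime_two⟩
  -- `N ≤ T`
  have hTN : N ≤ T := by
    obtain ⟨Q, hQ⟩ := hN.exists_le_sylow
    obtain ⟨g, hg⟩ := MulAction.exists_smul_eq H Q (hF.two.toSylow hF.ndvd)
    intro x hx
    have h1 : g⁻¹ * x * g ∈ N := by
      have := Normal.conj_mem (inferInstance : N.Normal) x hx g⁻¹
      rwa [inv_inv] at this
    have h2 : x ∈ ((g • Q : Sylow 2 H) : Subgroup H) := by
      rw [Sylow.coe_subgroup_smul, Subgroup.mem_pointwise_smul_iff_inv_smul_mem, ← map_inv, MulAut.smul_def,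
        MulAut.conj_apply, inv_inv]
      exact hQ h1
    rw [hg] at h2
    exact h2
  have hfixl : ∀ n ∈ N, ∀ h : H, ∀ a ∈ lam, n • h • a = h • a := by
    intro n hn h a ha
    have h1 : h⁻¹ * n * h ∈ N := by
      have := Normal.conj_mem (inferInstance : N.Normal) n hn h⁻¹
      rwa [inv_inv] at this
    have h2 := hF.fix _ (hTN h1) a ha
    rw [mul_smul, mul_smul, inv_smul_eq_iff] at h2
    exact h2
  rw [eq_bot_iff]
  intro n hn
  rw [mem_bot]
  apply hF.faith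
  have h3 := hF.gen (zm M N) (fun h a ha n' hn' => hfixl n' hn' h a ha)
  intro m
  have h4 : m ∈ zm M N := by rw [h3]; exact mem_top m
  exact h4 n hn

section inv

variable [Finite G] (D : Geom inc R W V s t) (F : RF inc R W V p l ρ π lam U) (hF : Flag T lam U Kh)
include D F hF

omit D in
/-- powers -/
theorem rho_pow {g : G} (hg : g ∈ centralizer (R p : Set G)) (j : ℕ) : ρ (g ^ j) = ρ g ^ j := by
  induction j with
  | zero => rw [pow_zero, pow_zero, F.re.one]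
  | succ j ih => rw [pow_succ, pow_succ, F.re.mul _ (pow_mem hg j) _ hg, ih]

omit D in
/-- **Baer-Suzuki, lifted.** -/
theorem exists_inv {f : G} (hf : f ∈ centralizer (R p : Set G)) (hff : f * f = 1) (hf1 : ρ f ≠ 1) :
    ∃ h ∈ centralizer (R p : Set G), Odd (orderOf h) ∧ f * h * f⁻¹ = h⁻¹ ∧ ρ h ≠ 1 := by
  have := hF.finH
  have hrr : ρ f * ρ f = 1 := by rw [← F.re.mul _ hf _ hf, hff, F.re.one]
  obtain ⟨k, hk1, hko, hki⟩ := Cfsg.Agent.Involutions.BaerSuzuki.exists_odd_inverted (ρ f) hrr (by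
    intro h1
    apply hf1
    have h2 := eq_bot_of_normal hF h1
    have h3 : ρ f ∈ (normalClosure {ρ f} : Subgroup H) := subset_normalClosure rfl
    rw [h2] at h3
    exact mem_bot.1 h3)
  -- `k² = k f k⁻¹ f⁻¹`; lift `k`
  obtain ⟨g, hg, rfl⟩ := F.re.surj k
  set d := g * f * g⁻¹ * f⁻¹ with hd
  have hgf : g * f * g⁻¹ ∈ centralizer (R p : Set G) := mul_mem (mul_mem hg hf) (inv_mem hg)
  have hdc : d ∈ centralizer (R p : Set G) := mul_mem hgf (inv_mem hf)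
  have hρd : ρ d = ρ g * ρ g := by
    rw [hd, F.re.mul _ hgf _ (inv_mem hf), F.re.conj hg hf, F.re.inv hf, conj_eq_sq hki]
  have hfi : f⁻¹ = f := inv_eq_of_mul_eq_one_left hff
  have hdi : f * d * f⁻¹ = d⁻¹ := by
    rw [hd]
    simp only [mul_inv_rev, inv_inv, hfi]
    calc f * (g * f * g⁻¹ * f) * f = f * (g * f * g⁻¹) * (f * f) := by group
      _ = f * (g * f * g⁻¹) := by rw [hff, mul_one]
      _ = f * (g * (f * g⁻¹)) := by group
  have hdi' : ∀ j : ℕ, f * d ^ j * f⁻¹ = (d ^ j)⁻¹ := by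
    intro j
    rw [← conj_pow, hdi, inv_pow]
  obtain ⟨a, m, hm, hda⟩ := Nat.exists_eq_two_pow_mul_odd (orderOf_pos d).ne'
  have hord : orderOf (d ^ 2 ^ a) = m := by
    rw [orderOf_pow_of_dvd (pow_ne_zero _ two_ne_zero) (by rw [hda]; exact dvd_mul_right _ _), hda,
      Nat.mul_div_cancel_left _ (pow_pos two_pos a)]
  refine ⟨d ^ 2 ^ a, pow_mem hdc _, by rw [hord]; exact hm, hdi' _, ?_⟩
  intro h1
  rw [rho_pow F hF hdc, hρd, ← pow_two, ← pow_mul, ← pow_succ'] at h1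
  -- `ρ g ^ 2 ^ (a + 1) = 1` and odd order
  have h2 : orderOf (ρ g) ∣ 2 ^ (a + 1) := orderOf_dvd_of_pow_eq_one h1
  have h3 : Nat.Coprime (orderOf (ρ g)) (2 ^ (a + 1)) := Nat.Coprime.pow_right _ (Nat.coprime_two_right.2 hko)
  exact hk1 (orderOf_eq_one_iff.1 (Nat.eq_one_of_dvd_coprimes h3 dvd_rfl h2))

end inv

section moves

variable [Finite G] (D : Geom inc R W V s t)

/-- `h ≠ 1` of odd order, inverted by `f ∈ O₂(C_G(V_l))`, does not normalise `V_l`. -/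
theorem not_norm {f h : G} (hfo : f ∈ o2 (centralizer (V l : Set G))) (ho : Odd (orderOf h))
    (hi : f * h * f⁻¹ = h⁻¹) (h1 : h ≠ 1) : h ∉ normalizer (V l : Set G) := by
  intro hn
  have : Fact (Nat.Prime 2) := ⟨Nat.prime_two⟩
  have hN : normalizer (V l : Set G) ≤ normalizer ((o2 (centralizer (V l : Set G)) : Subgroup G) : Set G) := by
    exact norm_cent.trans (Omega.normalizer_le_normalizer_o2' _)
  have h2 : h * f * h⁻¹ * f⁻¹ ∈ o2 (centralizer (V l : Set G)) :=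
    mul_mem (conj_mem_of_le_normalizer hN hn hfo) (inv_mem hfo)
  rw [conj_eq_sq hi] at h2
  have h3 := mem_of_sq_mem ho h2
  obtain ⟨k, hk⟩ := o2_isPGroup (centralizer (V l : Set G)) ⟨h, h3⟩
  have hk' : h ^ 2 ^ k = 1 := congrArg Subtype.val hk
  have h4 : orderOf h ∣ 2 ^ k := orderOf_dvd_of_pow_eq_one hk'
  have h5 : Nat.Coprime (orderOf h) (2 ^ k) := Nat.Coprime.pow_right _ (Nat.coprime_two_right.2 ho)
  exact h1 (orderOf_eq_one_iff.1 (Nat.eq_one_of_dvd_coprimes h5 dvd_rfl h4))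

include D

theorem smul_l_ne {f h : G} (hfo : f ∈ o2 (centralizer (V l : Set G))) (ho : Odd (orderOf h))
    (hi : f * h * f⁻¹ = h⁻¹) (h1 : h ≠ 1) : h • l ≠ l := by
  intro hl
  refine not_norm hfo ho hi h1 (mem_normalizer_fintype ?_)
  intro a ha
  have := D.V_smul h l a ha
  rwa [hl] at this

/-- `f` moves the point `h x₁`. -/
theorem f_moves {f h : G} (hfo : f ∈ o2 (centralizer (V l : Set G))) (ho : Odd (orderOf h))
    (hi : f * h * f⁻¹ = h⁻¹) (h1 : h ≠ 1) (hp : h ∈ centralizer (R p : Set G)) (hpl : inc p l) {x₁ : X}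
    (hx₁ : inc x₁ l) (hline : ∀ v ∈ V l, ∃ r ∈ R p, ∃ r' ∈ R x₁, v = r * r') : f • h • x₁ ≠ h • x₁ := by
  intro hfx
  have hfx₁ : f • x₁ = x₁ := D.cent_V_le hx₁ (o2_le _ hfo)
  have h2 : (h * f * h⁻¹ * f⁻¹) ∈ MulAction.stabilizer G (h • x₁) := by
    show (h * f * h⁻¹ * f⁻¹) • h • x₁ = h • x₁
    have e : f⁻¹ • h • x₁ = h • x₁ := by rw [inv_smul_eq_iff, hfx]
    rw [mul_smul, e, mul_smul, mul_smul, inv_smul_smul, hfx₁]
  rw [conj_eq_sq hi] at h2
  have h3 : h • h • x₁ = h • x₁ := mem_of_sq_mem ho h2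
  have h4 : h • x₁ = x₁ := smul_left_cancel h h3
  have h5 : h • p = p := Four.fix_p D hp
  refine not_norm hfo ho hi h1 (mem_normalizer_fintype ?_)
  intro a ha
  obtain ⟨r, hr, r', hr', rfl⟩ := hline a ha
  have e : h * (r * r') * h⁻¹ = (h * r * h⁻¹) * (h * r' * h⁻¹) := by group
  rw [e]
  exact mul_mem (D.R_le p l hpl (D.norm_R h5 hr)) (D.R_le x₁ l hx₁ (D.norm_R h4 hr'))

/-- `C(f) ∩ W_{h x₁} ≤ W_{x₁}` -/
theorem mem_of_comm {f h : G} {x₁ : X} (hfx : f ∈ centralizer (W x₁ : Set G)) (ho : Odd (orderOf h))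
    (hi : f * h * f⁻¹ = h⁻¹) {u : G} (hu : u ∈ W (h • x₁)) (hfu : f * u = u * f) : u ∈ W x₁ := by
  have h1 : h⁻¹ * u * h ∈ W x₁ := (D.W_smul_iff h).1 hu
  have h2 : (h * f * h⁻¹) * u = u * (h * f * h⁻¹) := by
    have h3 := mem_centralizer_iff.1 hfx _ h1
    have h4 := cg h h3
    have e1 : h * (h⁻¹ * u * h * f) * h⁻¹ = u * (h * f * h⁻¹) := by group
    have e2 : h * (f * (h⁻¹ * u * h)) * h⁻¹ = h * f * h⁻¹ * u := by group
    rw [e1, e2] at h4
    exact h4.symm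
  have h3 : h * h ∈ centralizer ({u} : Set G) := by
    rw [← conj_eq_sq hi]
    refine mul_mem ?_ (inv_mem ?_)
    · rw [mem_centralizer_singleton_iff]; exact h2
    · rw [mem_centralizer_singleton_iff]; exact hfu
  have h4 := mem_of_sq_mem ho h3
  rw [mem_centralizer_singleton_iff] at h4
  have e : h⁻¹ * u * h = u := by rw [mul_assoc, ← h4]; group
  rwa [e] at h1

end moves

/-- **Movers.** -/
theorem exists_mover [Finite G] {Sy : Subgroup G} {ζ : K →* G} (D : Geom inc R W V s t)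
    (F : RD inc R W V p l Sy ρ π ζ T lam U Kh) {f : G} (hff : f * f = 1)
    (hfo : f ∈ o2 (centralizer (V l : Set G))) (hf1 : ρ f ≠ 1) :
    ∃ h ∈ centralizer (R p : Set G), Odd (orderOf h) ∧ f * h * f⁻¹ = h⁻¹ ∧ ρ h ≠ 1 ∧ h • l ≠ l ∧
      (∀ x₁, inc x₁ l → x₁ ≠ p → f • h • x₁ ≠ h • x₁) ∧
      ∀ x₁, inc x₁ l → f ∈ centralizer (W x₁ : Set G) → ∀ u ∈ W (h • x₁), f * u = u * f → u ∈ W x₁ := by
  have hfp : f ∈ centralizer (R p : Set G) := RF.cent_V_le D F.toRF (o2_le _ hfo)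
  obtain ⟨h, hh, ho, hi, hne⟩ := exists_inv F.toRF F.flag hfp hff hf1
  have h1 : h ≠ 1 := by
    rintro rfl
    exact hne F.re.one
  exact ⟨h, hh, ho, hi, hne, smul_l_ne D hfo ho hi h1,
    fun x₁ hx₁ hx₁p => f_moves D hfo ho hi h1 hh F.pl hx₁ (F.line x₁ hx₁ hx₁p),
    fun x₁ _ hfx u hu hfu => mem_of_comm D hfx ho hi hu hfu⟩

/-- For critical pairs: `f ∈ W_q`, `l` the first line of a walk from `p` to `q`, `x₁` its second point. -/
theorem exists_mover_crit [Finite G] {Sy : Subgroup G} {ζ : K →* G} (D : Geom inc R W V s t)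
    (F : RD inc R W V p l Sy ρ π ζ T lam U Kh) {q x₁ : X} (hc : Crit inc W n p q) (hn : 1 ≤ n) (hx₁ : inc x₁ l)
    (hw : Walk inc (n - 1) x₁ q) {f : G} (hf : f ∈ W q) (hf1 : ρ f ≠ 1) :
    ∃ h ∈ centralizer (R p : Set G), Odd (orderOf h) ∧ f * h * f⁻¹ = h⁻¹ ∧ ρ h ≠ 1 ∧ h • l ≠ l ∧
      f • h • x₁ ≠ h • x₁ ∧ ∀ u ∈ W (h • x₁), f * u = u * f → u ∈ W x₁ := by
  have hx₁p : x₁ ≠ p := by
    rintro rfl
    exact hc.not_walk (by omega) hw
  have hcom : Com W q x₁ := hc.min (n - 1) (by omega) _ _ hw.symm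
  have hfo : f ∈ o2 (centralizer (V l : Set G)) := D.low_line hc.min hw.symm (by omega) hcom hx₁ hf
  obtain ⟨h, hh, ho, hi, hne, hl, hm, hu⟩ := exists_mover D F (D.sq q f hf) hfo hf1
  refine ⟨h, hh, ho, hi, hne, hl, hm x₁ hx₁ hx₁p, hu x₁ hx₁ ?_⟩
  rw [mem_centralizer_iff]
  exact fun w hw' => (hcom f hf w hw').symm

end Cfsg.Agent.Omega.NO3S.FarQ.Free

end
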